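import Cfsg.Agent.Walter.OS.Main
import Cfsg.Agent.Walter.Main

/-!
# Walter, rank three: the input `MaximalThm` of the assembly
-/

set_option autoImplicit false

namespace CfsgLib.Walter

universe u

theorem maximalThm : MaximalThm.{u} :=
  fun {_ _ _} hG hnsol hse _ ha hns => hG.isCoatom_centralizer hnsol hse ha hns

end CfsgLib.Walter
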