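import Cfsg.Agent.Walter.Basic
import Cfsg.Agent.GW.OSType.FCore
import Cfsg.Agent.GW.OSType.Star

/-!
# Walter, rank three: eigen elements of a Sylow 2-subgroup

`Eigen S x`: each element of `S` centralises or inverts `x`.  Odd invariant subgroups contain such
elements, inverted by `z` if `z` does not centralise the subgroup.
-/

set_option autoImplicit false
set_option linter.style.haveILetI false
set_option linter.unusedSectionVars false

open Subgroup
open CfsgLib.GW.OS (Inverts)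

namespace CfsgLib.Walter.OS

universe u

variable {G : Type u} [Group G] [Finite G]

/-- Each element of `S` centralises or inverts `x`. -/
def Eigen (S : Sylow 2 G) (x : G) : Prop :=
  ∀ s ∈ (S : Subgroup G), Commute s x ∨ Inverts s x

theorem Eigen.pow {S : Sylow 2 G} {x : G} (h : Eigen S x) (k : ℕ) : Eigen S (x ^ k) :=
  fun s hs => (h s hs).imp (fun h => h.pow_right k) (fun h => h.pow k)

theorem Eigen.cases {S : Sylow 2 G} {x s : G} (h : Eigen S x) (hs : s ∈ (S : Subgroup G)) :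
    s * x * s⁻¹ = x ∨ s * x * s⁻¹ = x⁻¹ :=
  (h s hs).imp (fun h => by rw [h.eq, mul_inv_cancel_right]) id

theorem Eigen.mem_normalizer {S : Sylow 2 G} {x s : G} (h : Eigen S x)
    (hs : s ∈ (S : Subgroup G)) : s ∈ normalizer (zpowers x : Set G) :=
  GW.OS.mem_normalizer_zpowers (h.cases hs)

theorem Eigen.le_normalizer {S : Sylow 2 G} {x : G} (h : Eigen S x) :
    (S : Subgroup G) ≤ normalizer (zpowers x : Set G) := fun _ hs => h.mem_normalizer hs

variable (hG : Minimal G) {S : Sylow 2 G}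
include hG

/-- The conjugate by an element normalising `S`. -/
theorem Eigen.conj {x n : G} (h : Eigen S x) (hn : n ∈ normalizer ((S : Subgroup G) : Set G)) :
    Eigen S (n * x * n⁻¹) := fun s hs => by
  have hs' : n⁻¹ * s * n ∈ (S : Subgroup G) := (mem_normalizer_iff.1 hn _).2 (by
    simpa [mul_assoc] using hs)
  have e : s = n * (n⁻¹ * s * n) * n⁻¹ := by group
  rw [e]
  exact (h _ hs').imp GW.OS.commute_conj_iff.2 fun h => h.conj n

/-- An element of `S` off `⟨z⟩` centralising `x`. -/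
theorem Eigen.exists_fixed {x z : G} (h : Eigen S x) (hz : z ∈ (S : Subgroup G))
    (hzx : Inverts z x) :
    ∃ b ∈ (S : Subgroup G), b ≠ 1 ∧ b ≠ z ∧ Commute b x := by
  obtain ⟨s, hs, hs1, hsz⟩ : ∃ s ∈ (S : Subgroup G), s ≠ 1 ∧ s ≠ z := by
    by_contra hc
    push Not at hc
    have hsub : ((S : Subgroup G) : Set G) ⊆ {1, z} := fun b hb => by
      by_cases hb1 : b = 1
      · exact Or.inl hb1
      · exact Or.inr (hc b hb hb1)
    have hl := (Set.ncard_le_ncard hsub (Set.toFinite _)).trans (Set.ncard_insert_le _ _)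
    rw [Set.ncard_singleton, ← Nat.card_coe_set_eq] at hl
    change Nat.card (S : Subgroup G) ≤ 2 at hl
    rw [hG.card S] at hl
    omega
  rcases h s hs with hc | hi
  · exact ⟨s, hs, hs1, hsz, hc⟩
  · refine ⟨z * s, mul_mem hz hs, fun e => hsz ?_, fun e => hs1 (mul_eq_left.1 e),
      hzx.mul_commute hi⟩
    rw [← inv_eq_of_mul_eq_one_right e, inv_eq_of_mul_eq_one_right (hG.sq S z hz)]

theorem le_normalizer_inf_centralizer {R : Subgroup G}
    (hR : (S : Subgroup G) ≤ normalizer (R : Set G)) {s : G} (hs : s ∈ (S : Subgroup G)) :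
    (S : Subgroup G) ≤ normalizer ((R ⊓ centralizer ({s} : Set G) : Subgroup G) : Set G) :=
  fun _ ha => LocalStructure.le_normalizer_inf _ _ (mem_inf.2 ⟨hR ha,
    le_normalizer (mem_centralizer_singleton_iff.2 (hG.sylow_comm S ha hs).eq)⟩)

/-- An invariant subgroup has an eigen element. -/
theorem exists_eigen {R : Subgroup G} (hR : (S : Subgroup G) ≤ normalizer (R : Set G))
    (hne : R ≠ ⊥) : ∃ x ∈ R, x ≠ 1 ∧ Eigen S x := by
  obtain ⟨A, ⟨hA1, hA2, hA3⟩, hmin⟩ :=
    (Set.toFinite {A : Subgroup G | A ≤ R ∧ A ≠ ⊥ ∧ (S : Subgroup G) ≤ normalizer (A : Set G)})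
      |>.exists_minimal ⟨R, le_rfl, hne, hR⟩
  haveI : Nontrivial A := (nontrivial_iff_ne_bot A).2 hA2
  obtain ⟨⟨x, hx⟩, hx1⟩ := exists_ne (1 : A)
  refine ⟨x, hA1 hx, fun e => hx1 (Subtype.ext e), fun s hs => ?_⟩
  by_cases h : A ⊓ centralizer ({s} : Set G) = ⊥
  · refine Or.inr (GW.OS.inverts_of_fixedPointFree (hG.sq S s hs) (hA3 hs) (fun y hy hsy => ?_) x hx)
    rw [← mem_bot, ← h]
    exact ⟨hy, mem_centralizer_singleton_iff.2 hsy.symm.eq⟩
  · have hle := hmin ⟨inf_le_left.trans hA1, h, le_normalizer_inf_centralizer hG hA3 hs⟩ inf_le_left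
    exact Or.inl (mem_centralizer_singleton_iff.1 (hle hx).2).symm

/-- An invariant odd subgroup not centralised by `z` has an eigen element inverted by `z`. -/
theorem exists_eigen_inverted {z : G} (hz : z ∈ (S : Subgroup G)) (hz1 : z ≠ 1) {R : Subgroup G}
    (ho : Odd (Nat.card R)) (hR : (S : Subgroup G) ≤ normalizer (R : Set G))
    (h : ∃ x ∈ R, ¬ Commute z x) : ∃ d ∈ R, d ≠ 1 ∧ Eigen S d ∧ Inverts z d := by
  obtain ⟨A, ⟨hA1, ⟨x, hx, hzx⟩, hA3⟩, hmin⟩ :=
    (Set.toFinite {A : Subgroup G | A ≤ R ∧ (∃ x ∈ A, ¬ Commute z x) ∧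
      (S : Subgroup G) ≤ normalizer (A : Set G)}) |>.exists_minimal ⟨R, le_rfl, h, hR⟩
  have hzz := hG.sq S z hz
  have hd := GW.OS.inverts_comm hzz x
  have hdA := GW.OS.comm_mem (hA3 hz) hx
  refine ⟨_, hA1 hdA, fun e => hzx (GW.OS.comm_eq_one_iff.1 e), fun s hs => ?_, hd⟩
  have small : ∀ w ∈ (S : Subgroup G),
      (∃ a ∈ A, ¬ Commute w a) → ∀ a ∈ A, Commute w a → Commute z a := by
    intro w hw ⟨a₀, ha₀, hwa₀⟩ a ha hwa
    by_contra hza
    have hle := hmin ⟨inf_le_left.trans hA1,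
      ⟨a, ⟨ha, mem_centralizer_singleton_iff.2 hwa.symm.eq⟩, hza⟩,
      le_normalizer_inf_centralizer hG hA3 hw⟩
      (inf_le_left : A ⊓ centralizer ({w} : Set G) ≤ A)
    exact hwa₀ (mem_centralizer_singleton_iff.1 (hle ha₀).2).symm
  by_cases hs1 : s = 1
  · exact Or.inl (hs1 ▸ Commute.one_left _)
  by_cases hsz : s = z
  · exact Or.inr (hsz ▸ hd)
  by_cases hsA : ∀ a ∈ A, Commute s a
  · exact Or.inl (hsA _ hdA)
  by_cases hzsA : ∀ a ∈ A, Commute (z * s) a
  · have h' := hd.of_commute (hzsA _ hdA)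
    rw [← mul_assoc, hzz, one_mul] at h'
    exact Or.inr h'
  push Not at hsA hzsA
  refine absurd (mem_centralizer_singleton_iff.1
    (GW.OS.le_of_four (hG.orderOf_sylow S hz hz1) (hG.orderOf_sylow S hs hs1)
      (hG.sylow_comm S hz hs) hsz (ho.of_dvd_nat (card_dvd_of_le hA1)) (hA3 hz) (hA3 hs)
      (fun a _ hc => mem_centralizer_singleton_iff.2 hc.symm.eq)
      (fun a ha hc => mem_centralizer_singleton_iff.2 (small s hs hsA a ha hc).symm.eq)
      (fun a ha hc => mem_centralizer_singleton_iff.2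
        (small _ (mul_mem hz hs) hzsA a ha hc).symm.eq) hx)).symm hzx

end CfsgLib.Walter.OS
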