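import Cfsg.Agent.Walter.OS.TopFacts
import Cfsg.Agent.Walter.OS.Eigen
import Cfsg.Agent.Small.StronglyEmbedded

/-!
# Walter, rank three: the maximal overgroups of an involution centralizer

`Ctx z M`: `M` is maximal and contains `C(z)` properly, where `C(z)` is not split.  The top of `M`
is `Z₂ × PSL₂(q)` extended by odd automorphisms with `z` central, and `M` has no components.
-/

set_option autoImplicit false
set_option linter.style.haveILetI false
set_option linter.unusedSectionVars false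

open Subgroup
open CfsgLib.Signalizer CfsgLib.BenderMethod
open CfsgLib.GW.OS (Inverts oddOf piMinus conj_mem_oddOf)

namespace CfsgLib.Walter.OS

universe u

variable {G : Type u} [Group G] [Finite G]

/-- A perfect subgroup of a solvable group is trivial. -/
theorem eq_bot_of_perfect {X : Type*} [Group X] [Finite X] {A B : Subgroup X} (hA : ⁅A, A⁆ = A)
    (hAB : A ≤ B) (hB : Group.IsSolvable B) : A = ⊥ := by
  haveI : Group.IsSolvable A := Group.isSolvable_of_isSolvable_injective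
    (f := Subgroup.inclusion hAB) (Subgroup.inclusion_injective hAB)
  by_contra hne
  haveI : Nontrivial A := (nontrivial_iff_ne_bot A).2 hne
  refine (Group.IsSolvable.commutator_lt_top_of_nontrivial (G := A)).ne
    (Subgroup.map_injective A.subtype_injective ?_)
  rw [map_subtype_commutator, ← MonoidHom.range_eq_map, range_subtype, hA]

/-- The setting. -/
structure Ctx (z : G) (M : Subgroup G) : Prop where
  min : Minimal G
  nsol : ∀ a : G, orderOf a = 2 → ¬ Group.IsSolvable (centralizer ({a} : Set G))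
  nse : ∀ H : Subgroup G, ¬ Cfsg.IsStronglyEmbedded H
  inv : orderOf z = 2
  ns : ¬ Split z
  coatom : IsCoatom M
  lt : centralizer ({z} : Set G) < M

/-- An overgroup with a maximal set of primes. -/
def Good (z : G) (M : Subgroup G) : Prop :=
  Ctx z M ∧ ∀ N, Ctx z N → piMinus z M ⊆ piMinus z N → piMinus z N ⊆ piMinus z M

/-- A decomposition of an involution of `Q` when `L ⊔ C(L)` has odd index. -/
theorem exists_factor {Q : Type*} [Group Q] [Finite Q] {L : Subgroup Q} [L.Normal]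
    (hL : IsPSLOdd L) (hi : Odd (L ⊔ centralizer (L : Set Q)).index) {z : Q} (hz : z * z = 1) :
    ∃ v ∈ L, ∃ c ∈ centralizer (L : Set Q), z = v * c ∧ v * v = 1 := by
  haveI := isSimpleGroup_pslOdd hL
  have hm := mem_of_sq_mem hi (x := z) (hz ▸ one_mem _)
  obtain ⟨v, hv, c, hc, rfl⟩ := mem_sup_of_normal_left.1 hm
  refine ⟨v, hv, c, hc, rfl, ?_⟩
  have hvc : c * v = v * c := (mem_centralizer_iff.1 hc v hv).symm
  have e : v * v * (c * c) = 1 := by
    calc v * v * (c * c) = v * (v * c) * c := by group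
      _ = v * (c * v) * c := by rw [hvc]
      _ = v * c * (v * c) := by group
      _ = 1 := hz
  have hd := centralizer_disjoint_of_simple (M := L) (not_comm_of_even (by
    obtain ⟨m, -, h⟩ := card_pslOdd hL
    exact ⟨m, h⟩))
  have : v * v ∈ centralizer (L : Set Q) ⊓ L :=
    ⟨eq_inv_of_mul_eq_one_left e ▸ (centralizer (L : Set Q)).inv_mem (mul_mem hc hc),
      mul_mem hv hv⟩
  rwa [hd, mem_bot] at this

theorem isSolvable_quotient {Q : Type*} [Group Q] [Finite Q] (hQ : TwoType Q) (L : Subgroup Q)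
    [L.Normal] (hL : 4 ∣ Nat.card L) : Group.IsSolvable (Q ⧸ L) := by
  haveI : Fact (Nat.Prime 2) := ⟨Nat.prime_two⟩
  refine HallNumbers.isSolvable_of_not_four_dvd fun h4 => ?_
  rw [← index_eq_card] at h4
  obtain ⟨S⟩ : Nonempty (Sylow 2 Q) := inferInstance
  have h16 : 2 ^ 4 ∣ Nat.card Q := by
    rw [← L.card_mul_index]
    exact dvd_trans (by norm_num) (mul_dvd_mul hL h4)
  have := Nat.le_of_dvd Nat.card_pos (S.pow_dvd_card_of_pow_dvd_card h16)
  have := (hQ S S.isPGroup').2
  omega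

/-- A centralizer is solvable when its trace on a normal subgroup with solvable quotient is. -/
theorem isSolvable_centralizer_of_inf {Q : Type*} [Group Q] [Finite Q] (L : Subgroup Q) [L.Normal]
    (hQ : Group.IsSolvable (Q ⧸ L)) (z : Q)
    (h : Group.IsSolvable ↥(centralizer ({z} : Set Q) ⊓ L)) :
    Group.IsSolvable (centralizer ({z} : Set Q)) := by
  haveI := hQ
  haveI := h
  refine Group.isSolvable_of_ker_le_range
    (Subgroup.inclusion (inf_le_left : centralizer ({z} : Set Q) ⊓ L ≤ centralizer ({z} : Set Q)))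
    ((QuotientGroup.mk' L).comp (centralizer ({z} : Set Q)).subtype) fun x hx => ?_
  exact ⟨⟨x, x.2, (QuotientGroup.eq_one_iff _).1 (MonoidHom.mem_ker.1 hx)⟩, rfl⟩

theorem map_oddOf_conj (g : G) (L : Subgroup G) :
    (oddOf L).map (MulAut.conj g).toMonoidHom = oddOf (L.map (MulAut.conj g).toMonoidHom) := by
  let E : L ≃* ↥(L.map (MulAut.conj g).toMonoidHom) := (MulAut.conj g).subgroupMap L
  have hE : (L.map (MulAut.conj g).toMonoidHom).subtype.comp E.toMonoidHom =
      (MulAut.conj g).toMonoidHom.comp L.subtype := MonoidHom.ext fun _ => rfl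
  rw [oddOf, oddOf, map_map, ← hE, ← map_map]
  exact congrArg _ (CfsgLib.PLocal.map_pPrimeCore_equiv (p := 2) E)

namespace Ctx

variable {z : G} {M : Subgroup G} (hc : Ctx z M)
include hc

theorem simple : IsSimpleGroup G := hc.min.simple

theorem z_sq : z * z = 1 := Small.mul_self_of_orderOf_two hc.inv

theorem mem_of_commute {c : G} (h : Commute z c) : c ∈ M :=
  hc.lt.le (GW.OS.mem_centralizer_of_commute h)

theorem mem_z : z ∈ M := hc.mem_of_commute (Commute.refl z)

theorem sylow_le {S : Sylow 2 G} (hS : z ∈ (S : Subgroup G)) : (S : Subgroup G) ≤ M := fun _ hs =>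
  hc.mem_of_commute (hc.min.sylow_comm S hS hs)

theorem twoType_top : TwoType (M ⧸ Cfsg.oddCore M) :=
  (hc.min.twoType.subgroup M).quotient_oddCore

theorem orderOf_mk_z :
    orderOf (QuotientGroup.mk' (Cfsg.oddCore M) ⟨z, hc.mem_z⟩) = 2 := by
  have h1 : orderOf (QuotientGroup.mk' (Cfsg.oddCore M) ⟨z, hc.mem_z⟩) ∣ 2 :=
    (orderOf_map_dvd (QuotientGroup.mk' (Cfsg.oddCore M)) ⟨z, hc.mem_z⟩).trans
      (dvd_of_eq (by rw [orderOf_mk, hc.inv]))
  refine ((Nat.dvd_prime Nat.prime_two).1 h1).resolve_left fun h => ?_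
  have := GW.OS.odd_orderOf_of_mem (ExtremelyClosed.odd_card_oddCore' M)
    ((QuotientGroup.eq_one_iff _).1 (orderOf_eq_one_iff.1 h))
  rw [orderOf_mk, hc.inv] at this
  exact absurd this (by decide)

/-- The image of `C(z)` is not solvable. -/
theorem not_isSolvable_centralizer_mk :
    ¬ Group.IsSolvable
      (centralizer ({QuotientGroup.mk' (Cfsg.oddCore M) ⟨z, hc.mem_z⟩} : Set _)) := by
  intro hs
  haveI : Group.IsSolvable (Cfsg.oddCore M) :=
    Cfsg.Agent.S0205.result (ExtremelyClosed.odd_card_oddCore' M)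
  set C := centralizer ({z} : Set G)
  refine hc.nsol z hc.inv ?_
  let K : Subgroup C := (Cfsg.oddCore M).comap (Subgroup.inclusion hc.lt.le)
  haveI : Group.IsSolvable K := Group.isSolvable_of_isSolvable_injective
    (f := (Subgroup.inclusion hc.lt.le).subgroupComap (Cfsg.oddCore M)) fun a b h =>
      Subtype.ext (Subgroup.inclusion_injective hc.lt.le (congrArg Subtype.val h))
  let f : C →* centralizer ({QuotientGroup.mk' (Cfsg.oddCore M) ⟨z, hc.mem_z⟩} : Set _) :=
    ((QuotientGroup.mk' (Cfsg.oddCore M)).comp (Subgroup.inclusion hc.lt.le)).codRestrict _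
      fun x => mem_centralizer_singleton_iff.2 ((show Commute (Subgroup.inclusion hc.lt.le x)
        ⟨z, hc.mem_z⟩ from Subtype.ext (mem_centralizer_singleton_iff.1 x.2)).map
          (QuotientGroup.mk' (Cfsg.oddCore M))).eq
  haveI := hs
  refine Group.isSolvable_of_ker_le_range K.subtype f fun x hx => ?_
  have h1 : QuotientGroup.mk' (Cfsg.oddCore M) (Subgroup.inclusion hc.lt.le x) = 1 :=
    congrArg Subtype.val (MonoidHom.mem_ker.1 hx)
  exact ⟨⟨x, (QuotientGroup.eq_one_iff (Subgroup.inclusion hc.lt.le x)).1 h1⟩, rfl⟩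

theorem not_isSolvable_top : ¬ Group.IsSolvable (M ⧸ Cfsg.oddCore M) := fun h => by
  haveI := h
  exact hc.not_isSolvable_centralizer_mk inferInstance

/-- An involution of `M` congruent to a conjugate of `z` is conjugate to `z` in `M`. -/
theorem exists_conj_of_mk {t : G} (ht : orderOf t = 2) (htM : t ∈ M) {m : M}
    (h : QuotientGroup.mk' (Cfsg.oddCore M) ⟨t, htM⟩ =
      QuotientGroup.mk' (Cfsg.oddCore M) (m * ⟨z, hc.mem_z⟩ * m⁻¹)) :
    ∃ k ∈ M, k * z * k⁻¹ = t := by
  set T : M := ⟨t, htM⟩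
  set T' : M := m * ⟨z, hc.mem_z⟩ * m⁻¹
  have htt : T * T = 1 := Subtype.ext (Small.mul_self_of_orderOf_two ht)
  have hT't : T' * T' = 1 := by
    rw [show T' * T' = m * (⟨z, hc.mem_z⟩ * ⟨z, hc.mem_z⟩) * m⁻¹ by simp only [T']; group,
      show (⟨z, hc.mem_z⟩ : M) * ⟨z, hc.mem_z⟩ = 1 from Subtype.ext hc.z_sq, mul_one,
      mul_inv_cancel]
  have hw : T' * T⁻¹ ∈ Cfsg.oddCore M := (QuotientGroup.eq_one_iff _).1 (by
    show QuotientGroup.mk' (Cfsg.oddCore M) (T' * T⁻¹) = 1
    rw [map_mul, map_inv, h, mul_inv_cancel])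
  have hTi : T⁻¹ = T := inv_eq_of_mul_eq_one_right htt
  have hi : Inverts T (T' * T⁻¹) := by
    show T * (T' * T⁻¹) * T⁻¹ = (T' * T⁻¹)⁻¹
    rw [mul_inv_rev, inv_inv, inv_eq_of_mul_eq_one_right hT't, hTi, mul_assoc, mul_assoc, htt,
      mul_one]
  obtain ⟨a, -, he⟩ := hi.exists_comm_eq
    (GW.OS.odd_orderOf_of_mem (ExtremelyClosed.odd_card_oddCore' M) hw)
  have he' : a * T * a⁻¹ = T' := mul_right_cancel he
  refine ⟨((a⁻¹ * m : M) : G), SetLike.coe_mem _, ?_⟩
  have e : a⁻¹ * m * ⟨z, hc.mem_z⟩ * (a⁻¹ * m)⁻¹ = T := by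
    calc a⁻¹ * m * ⟨z, hc.mem_z⟩ * (a⁻¹ * m)⁻¹ = a⁻¹ * T' * a := by simp only [T']; group
      _ = T := by rw [← he']; group
  exact congrArg Subtype.val e

/-- The top of `M`. -/
theorem exists_top : ∃ L : Subgroup (M ⧸ Cfsg.oddCore M), L.Normal ∧ IsPSLOdd L ∧
    Nat.card (centralizer (L : Set (M ⧸ Cfsg.oddCore M))) ≤ 2 ∧
    QuotientGroup.mk' (Cfsg.oddCore M) ⟨z, hc.mem_z⟩ ∈
      centralizer (L : Set (M ⧸ Cfsg.oddCore M)) := by
  haveI : Fact (Nat.Prime 2) := ⟨Nat.prime_two⟩
  have hT := hc.twoType_top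
  set π := QuotientGroup.mk' (Cfsg.oddCore M)
  set zq := π ⟨z, hc.mem_z⟩
  have hzq := Small.mul_self_of_orderOf_two hc.orderOf_mk_z
  rcases hc.min.known M hc.coatom.1 with h | ⟨L, hLn, hL, hC, hi⟩ | ⟨L, hLn, hL, -, hi⟩
  · exact absurd h hc.not_isSolvable_top
  · haveI := hLn
    refine ⟨L, hLn, hL, hC, ?_⟩
    obtain ⟨v, hv, c, hcc, hvc, hvv⟩ := exists_factor hL hi hzq
    change zq = v * c at hvc
    by_cases hv1 : v = 1
    · rw [hvc, hv1, one_mul]
      exact hcc
    exfalso
    refine hc.not_isSolvable_centralizer_mk (isSolvable_centralizer_of_inf L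
      (isSolvable_quotient hT L (by obtain ⟨m, -, h⟩ := card_pslOdd hL; exact ⟨m, h⟩)) _ ?_)
    set vL : L := ⟨v, hv⟩
    have hvo : orderOf vL = 2 := Small.orderOf_eq_two_iff_sq.2
      ⟨fun e => hv1 (congrArg Subtype.val e), Subtype.ext hvv⟩
    haveI := isSolvable_centralizer_pslOdd hL hvo
    let f : ↥(centralizer ({zq} : Set _) ⊓ L) →* centralizer ({vL} : Set L) :=
      { toFun := fun x => ⟨⟨x, x.2.2⟩, mem_centralizer_singleton_iff.2 (Subtype.ext (by
          show (x : M ⧸ Cfsg.oddCore M) * v = v * x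
          have h1 : (x : M ⧸ Cfsg.oddCore M) * (v * c) = v * c * x := by
            rw [← hvc]; exact mem_centralizer_singleton_iff.1 x.2.1
          rw [mul_assoc v, ← mem_centralizer_iff.1 hcc _ x.2.2, ← mul_assoc, ← mul_assoc] at h1
          exact mul_right_cancel h1))⟩
        map_one' := rfl
        map_mul' := fun _ _ => rfl }
    exact Group.isSolvable_of_isSolvable_injective (f := f) fun a b h =>
      Subtype.ext (congrArg (fun y : centralizer ({vL} : Set L) =>
        ((y : L) : M ⧸ Cfsg.oddCore M)) h)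
  · haveI := hLn
    exfalso
    have hzL : zq ∈ L := mem_of_sq_mem hi (hzq ▸ one_mem _)
    have hLT := hT.subgroup L
    rcases hL with hL | hL
    · refine hc.not_isSolvable_centralizer_mk (isSolvable_centralizer_of_inf L ?_ _ ?_)
      · refine Cfsg.Agent.S0205.result ?_
        rw [← index_eq_card]; exact hi
      · have hp : IsPGroup 2 ↥(centralizer ({zq} : Set _) ⊓ L) := fun x => ⟨1, Subtype.ext (by
          have h2 := sq_eq_one_pslEight hL (v := ⟨zq, hzL⟩) (g := ⟨x, x.2.2⟩)
            (by rw [orderOf_mk]; exact hc.orderOf_mk_z)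
            (Subtype.ext (mem_centralizer_singleton_iff.1 x.2.1).symm)
          simpa [pow_two] using congrArg Subtype.val h2)⟩
        haveI := hp.isNilpotent
        infer_instance
    · have hconj : ∀ t ∈ M, orderOf t = 2 → ∃ k ∈ M, k * z * k⁻¹ = t := by
        intro t htM ht
        set tq := π ⟨t, htM⟩
        have htq : tq * tq = 1 := by
          rw [← map_mul, show (⟨t, htM⟩ : M) * ⟨t, htM⟩ = 1 from
            Subtype.ext (Small.mul_self_of_orderOf_two ht), map_one]
        have htq1 : tq ≠ 1 := fun e => by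
          have := GW.OS.odd_orderOf_of_mem (ExtremelyClosed.odd_card_oddCore' M)
            ((QuotientGroup.eq_one_iff _).1 e)
          rw [orderOf_mk, ht] at this
          exact absurd this (by decide)
        have htL : tq ∈ L := mem_of_sq_mem hi (htq ▸ one_mem _)
        obtain ⟨l, hl⟩ := isConj_iff.1 (isConj_jr hL hLT (a := ⟨zq, hzL⟩) (b := ⟨tq, htL⟩)
          (by rw [orderOf_mk]; exact hc.orderOf_mk_z)
          (by rw [orderOf_mk]; exact Small.orderOf_eq_two_iff_sq.2 ⟨htq1, htq⟩))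
        obtain ⟨m, hm⟩ := QuotientGroup.mk'_surjective (Cfsg.oddCore M) (l : M ⧸ Cfsg.oddCore M)
        refine hc.exists_conj_of_mk ht htM (m := m) ?_
        rw [map_mul, map_mul, map_inv, hm]
        exact (congrArg Subtype.val hl).symm
      refine hc.nse M ((Small.isStronglyEmbedded_iff_centralizer hc.coatom.1 ?_).2 ⟨?_, ?_⟩)
      · rw [even_iff_two_dvd, ← hc.inv]
        exact Subgroup.orderOf_dvd_natCard M hc.mem_z
      · intro t htM ht g hg
        obtain ⟨k, hk, rfl⟩ := hconj t htM ht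
        have h2 : k⁻¹ * g * k ∈ M := hc.mem_of_commute (by
          have h := (show Commute g (k * z * k⁻¹) from
            mem_centralizer_singleton_iff.1 hg).map (MulAut.conj k⁻¹).toMonoidHom
          simpa [mul_assoc] using h.symm)
        have h3 := mul_mem (mul_mem hk h2) (inv_mem hk)
        rwa [show k * (k⁻¹ * g * k) * k⁻¹ = g by group] at h3
      · intro t htM s hsM ht hs _
        obtain ⟨k, hk, rfl⟩ := hconj t htM ht
        obtain ⟨k', hk', rfl⟩ := hconj s hsM hs
        exact ⟨k' * k⁻¹, mul_mem hk' (inv_mem hk), by group⟩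

/-- `z` is central modulo `O(M)`. -/
theorem commute_mk (q : M ⧸ Cfsg.oddCore M) :
    Commute (QuotientGroup.mk' (Cfsg.oddCore M) ⟨z, hc.mem_z⟩) q := by
  obtain ⟨L, hLn, -, hC, hz⟩ := hc.exists_top
  haveI := hLn
  set zq := QuotientGroup.mk' (Cfsg.oddCore M) ⟨z, hc.mem_z⟩
  have hzq1 : zq ≠ 1 := Small.ne_one_of_orderOf_two hc.orderOf_mk_z
  set C := centralizer (L : Set (M ⧸ Cfsg.oddCore M))
  have hq : q * zq * q⁻¹ ∈ C := (inferInstance : C.Normal).conj_mem zq hz q
  suffices e : q * zq * q⁻¹ = zq from (mul_inv_eq_iff_eq_mul.1 e).symm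
  by_contra hne
  have hsub : ({1, zq, q * zq * q⁻¹} : Set (M ⧸ Cfsg.oddCore M)) ⊆ (C : Set _) := by
    rintro x (rfl | rfl | rfl)
    exacts [one_mem C, hz, hq]
  have h3 : ({1, zq, q * zq * q⁻¹} : Set (M ⧸ Cfsg.oddCore M)).ncard = 3 := by
    rw [Set.ncard_insert_of_notMem, Set.ncard_pair (Ne.symm hne)]
    simp only [Set.mem_insert_iff, Set.mem_singleton_iff, not_or]
    exact ⟨Ne.symm hzq1, fun e => hzq1 (conj_eq_one_iff.1 e.symm)⟩
  have h := Set.ncard_le_ncard hsub (Set.toFinite _)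
  rw [h3, ← Nat.card_coe_set_eq] at h
  change 3 ≤ Nat.card C at h
  omega

theorem comm_mem_oddCore (m : M) :
    m * ⟨z, hc.mem_z⟩ * m⁻¹ * (⟨z, hc.mem_z⟩ : M)⁻¹ ∈ Cfsg.oddCore M := by
  refine (QuotientGroup.eq_one_iff _).1 ?_
  show QuotientGroup.mk' (Cfsg.oddCore M) _ = 1
  rw [map_mul, map_mul, map_mul, map_inv, map_inv]
  exact GW.OS.comm_eq_one_iff.2 (hc.commute_mk _)

theorem comm_mem_oddOf {m : G} (hm : m ∈ M) : m * z * m⁻¹ * z⁻¹ ∈ oddOf M :=
  ⟨_, hc.comm_mem_oddCore ⟨m, hm⟩, rfl⟩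

/-- `M` is `O(M)` times `C(z)`. -/
theorem exists_decomp' {m : G} (hm : m ∈ M) : ∃ o ∈ oddOf M, ∃ c, Commute z c ∧ m = o * c := by
  have h : m⁻¹ * z * m * z⁻¹ ∈ oddOf M := by simpa using hc.comm_mem_oddOf (inv_mem hm)
  obtain ⟨r, hr, hcr⟩ := GW.OS.exists_fixed_mul (n := m) hc.z_sq
    (GW.OS.odd_orderOf_of_mem (GW.OS.odd_card_oddOf M) h)
  refine ⟨m * r⁻¹ * m⁻¹, conj_mem_oddOf hm (inv_mem (zpowers_le.2 h hr)), m * r, hcr, ?_⟩
  group

/-- An `M`-conjugate of `z` commuting with `z` equals `z`. -/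
theorem conj_eq {m : G} (hm : m ∈ M) (h : Commute (m * z * m⁻¹) z) : m * z * m⁻¹ = z := by
  have h1 : Commute z (m * z * m⁻¹ * z⁻¹) := h.symm.mul_right (Commute.refl z).inv_right
  exact mul_inv_eq_one.1 ((GW.OS.inverts_comm hc.z_sq m).eq_one h1
    (GW.OS.odd_orderOf_of_mem (GW.OS.odd_card_oddOf M) (hc.comm_mem_oddOf hm)))

theorem core_le_oddOf : GW.core z ≤ oddOf M := by
  set C := centralizer ({z} : Set G)
  set π := QuotientGroup.mk' (Cfsg.oddCore M)
  set f : C →* M ⧸ Cfsg.oddCore M := π.comp (Subgroup.inclusion hc.lt.le)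
  have hf : Function.Surjective f := by
    intro q
    obtain ⟨m, rfl⟩ := QuotientGroup.mk'_surjective _ q
    obtain ⟨o, ⟨o', ho', rfl⟩, c, hcz, e⟩ := hc.exists_decomp' m.2
    refine ⟨⟨c, GW.OS.mem_centralizer_of_commute hcz⟩, ?_⟩
    show π ⟨c, hc.mem_of_commute hcz⟩ = π m
    rw [show m = o' * ⟨c, hc.mem_of_commute hcz⟩ from Subtype.ext e, map_mul,
      show π o' = 1 from (QuotientGroup.eq_one_iff _).2 ho', one_mul]
  haveI : ((Cfsg.oddCore C).map f).Normal :=
    (inferInstance : (Cfsg.oddCore C).Normal).map f hf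
  have hbot : (Cfsg.oddCore C).map f = ⊥ := by
    rw [eq_bot_iff, ← show Cfsg.oddCore (M ⧸ Cfsg.oddCore M) = ⊥ from
      CfsgLib.PLocal.pPrimeCore_quotient_pPrimeCore_eq_bot 2 M]
    exact CfsgLib.PLocal.le_pPrimeCore (CfsgLib.PLocal.not_dvd_iff_coprime.2 fun h2 =>
      ((ExtremelyClosed.odd_card_oddCore' C).of_dvd_nat (Subgroup.card_map_dvd _ f)).not_two_dvd_nat
        h2)
  rintro _ ⟨x, hx, rfl⟩
  refine ⟨Subgroup.inclusion hc.lt.le x, (QuotientGroup.eq_one_iff _).1 ?_, rfl⟩
  exact mem_bot.1 (hbot ▸ mem_map_of_mem f hx)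

theorem layer_eq_bot : Cfsg.layer M = ⊥ := by
  by_contra hne
  obtain ⟨L, hLn, hL, hC, -⟩ := hc.exists_top
  haveI := hLn
  haveI := isSimpleGroup_pslOdd hL
  haveI : Group.IsSolvable (Cfsg.oddCore M) :=
    Cfsg.Agent.S0205.result (ExtremelyClosed.odd_card_oddCore' M)
  haveI := isSolvable_quotient hc.twoType_top L (by
    obtain ⟨m, -, h⟩ := card_pslOdd hL; exact ⟨m, h⟩)
  set π := QuotientGroup.mk' (Cfsg.oddCore M)
  haveI : (Cfsg.layer M).Normal := Components.layer_normal
  haveI hEn : ((Cfsg.layer M).map π).Normal :=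
    (inferInstance : (Cfsg.layer M).Normal).map π (QuotientGroup.mk'_surjective _)
  have hLE : L ≤ (Cfsg.layer M).map π := by
    rcases IsSimpleGroup.eq_bot_or_eq_top_of_normal (((Cfsg.layer M).map π).subgroupOf L)
      inferInstance with h' | h'
    · exfalso
      have hle : (Cfsg.layer M).map π ≤ centralizer (L : Set _) := fun k hk =>
        mem_centralizer_iff.2 fun l hl => (Subgroup.commute_of_normal_of_disjoint _ _ hLn hEn
          (disjoint_comm.1 (subgroupOf_eq_bot.1 h')) l k hl hk).eq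
      have hsC : Group.IsSolvable (centralizer (L : Set (M ⧸ Cfsg.oddCore M))) :=
        HallNumbers.isSolvable_of_not_four_dvd fun h4 => by
          have := Nat.le_of_dvd Nat.card_pos h4
          omega
      obtain ⟨K, hK⟩ : ∃ K, Cfsg.IsComponent (G := M) K := by
        by_contra h
        push Not at h
        exact hne (eq_bot_iff.2 (sSup_le fun K hK => absurd hK (h K)))
      refine Components.IsComponent.not_isSolvable hK ?_
      have h0 : ⁅K, K⁆ = K := by
        have hp := hK.2.1.commutator_eq_top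
        have := congrArg (Subgroup.map K.subtype) hp
        rwa [map_subtype_commutator, ← MonoidHom.range_eq_map, range_subtype] at this
      have h1 : K.map π = ⊥ := eq_bot_of_perfect (by rw [← map_commutator, h0])
        ((map_mono (Components.IsComponent.le_layer hK)).trans hle) hsC
      rw [Subgroup.map_eq_bot_iff, QuotientGroup.ker_mk'] at h1
      exact Group.isSolvable_of_isSolvable_injective (f := Subgroup.inclusion h1)
        (Subgroup.inclusion_injective h1)
    · exact subgroupOf_eq_top.1 h'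
  refine hc.ns fun P hP hperf x hx => mem_centralizer_iff.2 fun y hy => ?_
  set P' := P.subgroupOf M
  have hP' : ⁅P', P'⁆ = P' := by
    refine Subgroup.map_injective M.subtype_injective ?_
    rw [map_commutator, map_subgroupOf_eq_of_le (hP.trans hc.lt.le), hperf]
  have hPL : P'.map π ≤ L := by
    have h1 : (P'.map π).map (QuotientGroup.mk' L) = ⊥ := eq_bot_of_perfect
      (by rw [← map_commutator, ← map_commutator, hP']) le_top inferInstance
    rwa [Subgroup.map_eq_bot_iff, QuotientGroup.ker_mk'] at h1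
  have hPE : P' ≤ Cfsg.layer M := by
    have h2 : P'.map (QuotientGroup.mk' (Cfsg.layer M)) = ⊥ := by
      refine eq_bot_of_perfect (B := (Cfsg.oddCore M).map (QuotientGroup.mk' (Cfsg.layer M)))
        (by rw [← map_commutator, hP']) ?_ ?_
      · rintro _ ⟨p, hp, rfl⟩
        obtain ⟨k, hk, hkp⟩ := hLE (hPL (mem_map_of_mem π hp))
        refine ⟨k⁻¹ * p, QuotientGroup.eq.1 hkp, ?_⟩
        rw [map_mul, map_inv, show QuotientGroup.mk' (Cfsg.layer M) k = 1 from
          (QuotientGroup.eq_one_iff _).2 hk, inv_one, one_mul]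
      · exact Group.isSolvable_of_surjective (MonoidHom.subgroupMap_surjective _ _)
    rwa [Subgroup.map_eq_bot_iff, QuotientGroup.ker_mk'] at h2
  obtain ⟨y', hy', rfl⟩ := hc.core_le_oddOf hy
  have h3 := GW.OS.commute_layer_oddCore (hPE (mem_subgroupOf.2 hx : (⟨x, hP.trans hc.lt.le hx⟩ : M) ∈ P')) hy'
  exact (h3.map M.subtype).eq.symm

theorem layerOf_eq_bot : layerOf' M = ⊥ := by
  rw [layerOf', hc.layer_eq_bot, Subgroup.map_bot]

/-- `O₂(M) = 1`. -/
theorem pCoreOf_two : Cfsg.pCoreOf 2 M = ⊥ := by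
  classical
  haveI : Fact (Nat.Prime 2) := ⟨Nat.prime_two⟩
  obtain ⟨L, hLn, hL, hC, -⟩ := hc.exists_top
  haveI := hLn
  haveI := isSimpleGroup_pslOdd hL
  set π := QuotientGroup.mk' (Cfsg.oddCore M)
  set P := Cfsg.pCore 2 M
  haveI hPn : P.Normal := LocalStructure.pCore_normal
  have hPp : IsPGroup 2 P := LocalStructure.pCore_isPGroup
  haveI hIn : (P.map π).Normal := hPn.map π (QuotientGroup.mk'_surjective _)
  have hle : P.map π ≤ centralizer (L : Set _) := by
    rcases IsSimpleGroup.eq_bot_or_eq_top_of_normal ((P.map π).subgroupOf L) inferInstance with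
      h' | h'
    · exact fun k hk => mem_centralizer_iff.2 fun l hl => (Subgroup.commute_of_normal_of_disjoint
        _ _ hLn hIn (disjoint_comm.1 (subgroupOf_eq_bot.1 h')) l k hl hk).eq
    · exfalso
      have hLp : IsPGroup 2 L := ((hPp.map π).to_le (subgroupOf_eq_top.1 h'))
      haveI := hLp.isNilpotent
      obtain ⟨m, -, hm⟩ := card_pslOdd hL
      exact not_comm_of_even ⟨m, hm⟩ ⟨⟨IsSimpleGroup.comm_iff_isSolvable.2 inferInstance⟩⟩
  have hinj : Function.Injective (π.comp P.subtype) := by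
    rw [injective_iff_map_eq_one]
    intro x hx
    refine Subtype.ext (mem_bot.1 ?_)
    rw [← PLocal.disjoint_of_isPGroup_of_coprime hPp (PLocal.coprime_card_pPrimeCore 2 M)]
    exact ⟨x.2, (QuotientGroup.eq_one_iff _).1 hx⟩
  have hP2 : Nat.card P ≤ 2 := by
    refine (Nat.card_le_card_of_injective (fun x : P => (⟨π x, hle (mem_map_of_mem π x.2)⟩ :
      centralizer (L : Set (M ⧸ Cfsg.oddCore M)))) ?_).trans hC
    exact fun a b h => hinj (congrArg Subtype.val h)
  by_contra hne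
  obtain ⟨t, htP, ht1⟩ : ∃ t ∈ P, t ≠ 1 := by
    by_contra h
    push Not at h
    exact hne ((congrArg (Subgroup.map M.subtype) (show P = ⊥ from
      eq_bot_iff.2 fun t ht => mem_bot.2 (h t ht))).trans (Subgroup.map_bot _))
  have huniq : ∀ s ∈ P, s ≠ 1 → s = t := by
    intro s hs hs1
    by_contra hst
    have hsub : ({1, s, t} : Set M) ⊆ (P : Set M) := by
      rintro y (rfl | rfl | rfl)
      exacts [one_mem P, hs, htP]
    have h3 : ({1, s, t} : Set M).ncard = 3 := by
      rw [Set.ncard_insert_of_notMem, Set.ncard_pair hst]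
      simp only [Set.mem_insert_iff, Set.mem_singleton_iff, not_or]
      exact ⟨Ne.symm hs1, Ne.symm ht1⟩
    have h := Set.ncard_le_ncard hsub (Set.toFinite _)
    rw [h3, ← Nat.card_coe_set_eq] at h
    change 3 ≤ Nat.card P at h
    omega
  have hto : orderOf (t : G) = 2 := by
    rw [orderOf_coe]
    refine Small.orderOf_eq_two_iff_sq.2 ⟨ht1, ?_⟩
    by_contra h
    exact ht1 (by simpa using huniq _ (mul_mem htP htP) h)
  have hMt : M ≤ centralizer ({(t : G)} : Set G) := fun m hm =>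
    mem_centralizer_singleton_iff.2 (mul_inv_eq_iff_eq_mul.1 (congrArg Subtype.val
      (huniq _ (hPn.conj_mem t htP ⟨m, hm⟩) fun e => ht1 (conj_eq_one_iff.1 e))))
  obtain ⟨g, hg⟩ := isConj_iff.1 (hc.min.isConj hc.inv hto)
  have h1 : Nat.card M ≤ Nat.card (centralizer ({(t : G)} : Set G)) := card_le_of_le hMt
  rw [← hg, ← CAGroups.map_conj_centralizer,
    card_map_of_injective (MulAut.conj g).injective] at h1
  exact hc.lt.ne (eq_of_le_of_card_ge hc.lt.le h1)

theorem prime_ne_two {u : ℕ} (h : Cfsg.pCoreOf u M ≠ ⊥) : u ≠ 2 := by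
  rintro rfl
  exact h hc.pCoreOf_two

theorem odd_pCoreOf {u : ℕ} (hu : u.Prime) : Odd (Nat.card (Cfsg.pCoreOf u M)) := by
  haveI := Fact.mk hu
  by_cases h : Cfsg.pCoreOf u M = ⊥
  · rw [h, card_bot]; exact odd_one
  · obtain ⟨k, hk⟩ := IsPGroup.iff_card.1 (GW.OS.isPGroup_pCoreOf u M)
    rw [hk]
    exact (hu.odd_of_ne_two (hc.prime_ne_two h)).pow

theorem odd_orderOf_pCoreOf {u : ℕ} (hu : u.Prime) {x : G} (hx : x ∈ Cfsg.pCoreOf u M) :
    Odd (orderOf x) :=
  GW.OS.odd_orderOf_of_mem (hc.odd_pCoreOf hu) hx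

theorem odd_fitting : Odd (Nat.card (fittingOf M)) := by
  rw [← Nat.not_even_iff_odd, even_iff_two_dvd]
  intro h
  haveI : Fact (Nat.Prime 2) := ⟨Nat.prime_two⟩
  rw [card_map_of_injective M.subtype_injective] at h
  exact (dvd_card_fitting_iff M 2).1 h hc.pCoreOf_two

/-- `C_M(F(M)) ≤ F(M)`. -/
theorem mem_fitting {x : G} (hx : x ∈ M)
    (h : ∀ u : ℕ, u.Prime → ∀ y ∈ Cfsg.pCoreOf u M, Commute y x) : x ∈ fittingOf M :=
  mem_fittingOf_of_commute hc.layer_eq_bot hx fun r => h r r.2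

theorem piMinus_nonempty : ∃ u, u ∈ piMinus z M := by
  by_contra h
  have hz : z ∈ fittingOf M := hc.mem_fitting hc.mem_z fun u hu y hy => by
    by_contra hy'
    exact h ⟨u, hu, y, hy, fun e => hy' e.symm⟩
  have := GW.OS.odd_orderOf_of_mem hc.odd_fitting hz
  rw [hc.inv] at this
  exact absurd this (by decide)

theorem ne_bot_of_piMinus {u : ℕ} (h : u ∈ piMinus z M) : Cfsg.pCoreOf u M ≠ ⊥ := by
  obtain ⟨-, x, hx, hne⟩ := h
  intro e
  rw [e, mem_bot] at hx
  exact hne (hx ▸ Commute.one_right z)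

theorem z_normalizes (u : ℕ) : z ∈ normalizer (Cfsg.pCoreOf u M : Set G) :=
  GW.OS.mem_normalizer_pCoreOf hc.mem_z

/-- A nontrivial normal subgroup of `M` has normalizer in `M`. -/
theorem normalizer_le {W : Subgroup G} (hW : W ≤ M) (hn : M ≤ normalizer (W : Set G)) (h : W ≠ ⊥) :
    normalizer (W : Set G) ≤ M := by
  haveI := hc.simple
  exact normalizer_le_of_coatom hc.coatom hW hn h

/-- Conjugating the setting. -/
theorem conj (g : G) : Ctx (g * z * g⁻¹) (M.map (MulAut.conj g).toMonoidHom) where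
  min := hc.min
  nsol := hc.nsol
  nse := hc.nse
  inv := by rw [Small.orderOf_conj_eq, hc.inv]
  ns := fun hs => hc.ns fun P hP hperf => by
    have hC : centralizer ({g * z * g⁻¹} : Set G) =
        (centralizer ({z} : Set G)).map (MulAut.conj g).toMonoidHom :=
      (CAGroups.map_conj_centralizer g z).symm
    have hcore : GW.core (g * z * g⁻¹) = (GW.core z).map (MulAut.conj g).toMonoidHom := by
      show oddOf (centralizer ({g * z * g⁻¹} : Set G)) = _
      rw [hC]
      exact (map_oddOf_conj g _).symm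
    have h := hs (P.map (MulAut.conj g).toMonoidHom) (hC ▸ map_mono hP)
      (by rw [← map_commutator, hperf])
    rw [hcore] at h
    intro x hx
    refine mem_centralizer_iff.2 fun y hy => (MulAut.conj g).injective ?_
    rw [map_mul, map_mul]
    exact mem_centralizer_iff.1 (h (mem_map_of_mem _ hx)) _ (mem_map_of_mem _ hy)
  coatom := ((MulAut.conj g).mapSubgroup.isCoatom_iff M).2 hc.coatom
  lt := by
    rw [← CAGroups.map_conj_centralizer]
    exact (MulAut.conj g).mapSubgroup.lt_iff_lt.2 hc.lt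

end Ctx

theorem Good.conj {z : G} {M : Subgroup G} (h : Good z M) (g : G) :
    Good (g * z * g⁻¹) (M.map (MulAut.conj g).toMonoidHom) := by
  refine ⟨h.1.conj g, fun N hN hsub => ?_⟩
  have hN' := hN.conj g⁻¹
  rw [show g⁻¹ * (g * z * g⁻¹) * g⁻¹⁻¹ = z by group] at hN'
  have e := GW.OS.piMinus_conj g⁻¹ (g * z * g⁻¹) N
  rw [show g⁻¹ * (g * z * g⁻¹) * g⁻¹⁻¹ = z by group] at e
  rw [GW.OS.piMinus_conj] at hsub ⊢
  rw [← e] at hsub ⊢
  exact h.2 _ hN' hsub

theorem exists_good {z : G} {M : Subgroup G} (hc : Ctx z M) : ∃ M₀, Good z M₀ := by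
  obtain ⟨M₀, hM₀, hmax⟩ := (Set.toFinite {N : Subgroup G | Ctx z N}).exists_maximalFor
    (piMinus z) _ ⟨M, hc⟩
  exact ⟨M₀, hM₀, fun N hN hsub => hmax hN hsub⟩

end CfsgLib.Walter.OS
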