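import Cfsg.Agent.Walter.OS.Star
import Cfsg.Agent.GW.OSType.FCore
import Cfsg.Agent.GW.OSType.Frobenius

/-!
# Walter, rank three: the centralizer of `f`, the Fitting part of `H`

`f ∈ O_t(M)` inverted by `z` and fixed by `b`, where `z` centralizes the other `O_v(M)`;
`H` contains `N(⟨f⟩)`.  Then `F(H) ≤ M`.
-/

set_option autoImplicit false
set_option linter.style.haveILetI false
set_option linter.unusedSectionVars false

open Subgroup
open CfsgLib.Signalizer CfsgLib.BenderMethod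
open CfsgLib.GW.OS

namespace CfsgLib.Walter.OS

universe u

variable {G : Type u} [Group G] [Finite G]

/-- The situation. -/
structure FCtx (S : Sylow 2 G) (z b g f : G) (t : ℕ) (M H : Subgroup G) : Prop where
  hzS : z ∈ (S : Subgroup G)
  hbS : b ∈ (S : Subgroup G)
  hfe : Eigen S f
  good : Good z M
  pair : Pair z M H
  hb : orderOf b = 2
  hzb : Commute z b
  hne : b ≠ z
  g1 : g * z * g⁻¹ = b
  g2 : g * b * g⁻¹ = z * b
  ht : t.Prime
  hf : f ∈ Cfsg.pCoreOf t M
  hf1 : f ≠ 1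
  hfi : Inverts z f
  hbf : Commute b f
  small : ∀ v : ℕ, v.Prime → v ≠ t → ∀ x ∈ Cfsg.pCoreOf v M, Commute z x
  hle : normalizer (zpowers f : Set G) ≤ H

namespace FCtx

variable {S : Sylow 2 G} {z b g f : G} {t : ℕ} {M H : Subgroup G} (c : FCtx S z b g f t M H)
include c

theorem mem_H {x : G} (h : Commute x f) : x ∈ H := c.hle (mem_normalizer_zpowers_of_commute h)

theorem sylow_le_H : (S : Subgroup G) ≤ H := fun _ hs => c.hle (c.hfe.mem_normalizer hs)

theorem f_mem : f ∈ H := c.mem_H (Commute.refl f)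

theorem b_mem_M : b ∈ M := c.pair.ctx.mem_of_commute c.hzb

theorem b_mem_H : b ∈ H := c.mem_H c.hbf

theorem f_odd : Odd (orderOf f) := c.pair.ctx.odd_orderOf_pCoreOf c.ht c.hf

theorem good1 : Good b (M.map (MulAut.conj g).toMonoidHom) := c.g1 ▸ c.good.conj g

theorem ctx1 : Ctx b (M.map (MulAut.conj g).toMonoidHom) := c.good1.1

theorem f_mem_M1 : f ∈ M.map (MulAut.conj g).toMonoidHom := c.ctx1.mem_of_commute c.hbf

theorem z_mem_M1 : z ∈ M.map (MulAut.conj g).toMonoidHom := c.ctx1.mem_of_commute c.hzb.symm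

theorem core_M1_eq_bot {s : ℕ} (h : Cfsg.pCoreOf s M = ⊥) :
    Cfsg.pCoreOf s (M.map (MulAut.conj g).toMonoidHom) = ⊥ := by
  rw [← map_pCoreOf_conj, h, Subgroup.map_bot]

theorem ne_of_bot {s : ℕ} (h : Cfsg.pCoreOf s M = ⊥) : s ≠ t := by
  rintro rfl
  exact c.hf1 (mem_bot.1 (h ▸ c.hf))

/-- The primes other than `t` of `M₁` give elements of `C(b) ∩ C(f)`. -/
theorem commute_M1 {v : ℕ} (hv : v.Prime) (hvt : v ≠ t) {x : G}
    (hx : x ∈ Cfsg.pCoreOf v (M.map (MulAut.conj g).toMonoidHom)) : Commute b x ∧ Commute x f := by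
  haveI := Fact.mk hv
  have hbx : ∀ y ∈ Cfsg.pCoreOf v (M.map (MulAut.conj g).toMonoidHom), Commute b y := by
    intro y hy
    rw [← map_pCoreOf_conj] at hy
    obtain ⟨w, hw, rfl⟩ := hy
    show Commute b (g * w * g⁻¹)
    rw [← c.g1]
    exact commute_conj_iff.2 (c.small v hv hvt w hw)
  refine ⟨hbx x hx, ?_⟩
  by_cases hbot : Cfsg.pCoreOf v (M.map (MulAut.conj g).toMonoidHom) = ⊥
  · rw [hbot, mem_bot] at hx
    exact hx ▸ Commute.one_left f
  exact (commute_of_inverts_fixed (isPGroup_pCoreOf v _) (c.ctx1.prime_ne_two hbot)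
    c.pair.ctx.z_sq (mem_normalizer_pCoreOf c.z_mem_M1) (mem_normalizer_pCoreOf c.f_mem_M1) c.hfi
    c.f_odd (coprime_orderOf_pCoreOf c.ht hv hvt.symm c.hf)
    (fun a ha hza => commute_of_cores c.ht hv hvt.symm c.hf ha c.f_mem_M1
      (c.pair.ctx.mem_of_commute hza)) x hx).symm

theorem commute_core {s : ℕ} (hs : s.Prime) (h : Cfsg.pCoreOf s M = ⊥) :
    ∀ y ∈ Cfsg.pCoreOf s H, Commute f y :=
  c.pair.commute_core hs h c.f_mem c.hfi c.f_odd

/-- `O_s(H) ∩ M₁ = 1` for `s` outside the primes of `F(M)`. -/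
theorem eq_one_of_mem_M1 {s : ℕ} (hs : s.Prime) (h : Cfsg.pCoreOf s M = ⊥) {y : G}
    (hy : y ∈ Cfsg.pCoreOf s H) (hyM : y ∈ M.map (MulAut.conj g).toMonoidHom) : y = 1 := by
  haveI := Fact.mk hs
  haveI := Fact.mk c.ht
  have hbot := c.core_M1_eq_bot h
  have hyH : y ∈ H := LocalStructure.pCoreOf_le H hy
  have hyF : y ∈ fittingOf (M.map (MulAut.conj g).toMonoidHom) := by
    refine c.ctx1.mem_fitting hyM fun w hw x hx => ?_
    by_cases hws : w = s
    · subst hws
      rw [hbot, mem_bot] at hx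
      exact hx ▸ Commute.one_left y
    by_cases hwt : w = t
    · subst hwt
      refine (LocalEven48.commute_of_commute_fixed (P := Cfsg.pCoreOf w _) (A := zpowers f) (b := y)
        (isPGroup_pCoreOf w _)
        ((isPGroup_pCoreOf w M).to_le (zpowers_le.2 c.hf))
        (zpowers_le.2 (mem_normalizer_pCoreOf c.f_mem_M1)) (mem_normalizer_pCoreOf hyM)
        (coprime_orderOf_pCoreOf hs hw (c.ne_of_bot h) hy) ?_ ?_ x hx).symm
      · intro a ha
        obtain ⟨i, rfl⟩ := mem_zpowers_iff.1 ha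
        exact (c.commute_core hs h y hy).zpow_left i
      · intro a ha hfa
        have haH : a ∈ H := c.mem_H (hfa f (mem_zpowers f)).symm
        exact (commute_of_cores hw hs (c.ne_of_bot h).symm ha hy haH hyM).symm
    · exact commute_of_cores hw hs hws hx hy (c.mem_H (c.commute_M1 hw hwt hx).2) hyM
  obtain ⟨k, hk⟩ := exists_pow_pCoreOf hy
  have := mem_pCoreOf_of_mem_fittingOf _ hyF hk
  rwa [hbot, mem_bot] at this

/-- `b` also inverts `O_s(H)`, so `zb` centralizes it. -/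
theorem commute_zb {s : ℕ} (hs : s.Prime) (h : Cfsg.pCoreOf s M = ⊥) :
    ∀ y ∈ Cfsg.pCoreOf s H, Inverts b y ∧ Commute (z * b) y := by
  have hib := inverts_of_fixedPointFree (Small.mul_self_of_orderOf_two c.hb)
    (mem_normalizer_pCoreOf (u := s) c.b_mem_H)
    (fun _ hy hby => c.eq_one_of_mem_M1 hs h hy (c.ctx1.mem_of_commute hby))
  exact fun y hy => ⟨hib y hy, (c.pair.inverts_core hs h y hy).mul_commute (hib y hy)⟩

variable {r : ℕ} (hr : r.Prime) (hrt : r ≠ t)
include hr hrt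

theorem center_facts {x : G} (hx : x ∈ coreCenter r M) (hx1 : x ≠ 1) :
    Commute z x ∧ Commute x f ∧ Commute b (g * x * g⁻¹) ∧ Commute (g * x * g⁻¹) f ∧
      centralizer ({x} : Set G) ≤ M ∧
      centralizer ({g * x * g⁻¹} : Set G) ≤ M.map (MulAut.conj g).toMonoidHom := by
  haveI := Fact.mk hr
  haveI := Fact.mk c.ht
  have hzx := c.small r hr hrt x hx.1
  have hx' : g * x * g⁻¹ ∈ coreCenter r (M.map (MulAut.conj g).toMonoidHom) := coreCenter_conj hx
  have h := c.commute_M1 hr hrt hx'.1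
  exact ⟨hzx, commute_pCoreOf M hrt hx.1 c.hf, h.1, h.2, c.good.centralizer_le hr hx hx1 hzx,
    c.good1.centralizer_le hr hx' (fun e => hx1 (conj_eq_one_iff.1 e)) h.1⟩

theorem inverts_conj {x : G} (hx : x ∈ coreCenter r M) (hx1 : x ≠ 1) (hbx : Inverts b x) :
    Inverts z (g * x * g⁻¹) := by
  have h := (hbx.conj g).of_commute (c.center_facts hr hrt hx hx1).2.2.1
  rwa [c.g2, mul_assoc, Small.mul_self_of_orderOf_two c.hb, mul_one] at h

/-- `F(H) ≤ M` when `b` inverts some element of `Z(O_r(M))`. -/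
theorem core_le_of_inverted {x : G} (hx : x ∈ coreCenter r M) (hx1 : x ≠ 1) (hbx : Inverts b x) :
    ∀ s : ℕ, s.Prime → Cfsg.pCoreOf s H ≤ M := by
  intro s hs
  by_cases hsM : Cfsg.pCoreOf s M = ⊥
  · obtain ⟨-, -, -, hf', -, hC⟩ := c.center_facts hr hrt hx hx1
    intro y hy
    have hcy := c.pair.commute_core hs hsM (c.mem_H hf') (c.inverts_conj hr hrt hx hx1 hbx)
      (odd_orderOf_of_mem (c.ctx1.odd_pCoreOf hr) (coreCenter_conj hx).1) y hy
    rw [c.eq_one_of_mem_M1 hs hsM hy (hC (mem_centralizer_of_commute hcy))]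
    exact one_mem M
  · exact c.pair.core_le hs hsM

/-- `F(H) ≤ M` when `b` centralizes `Z(O_r(M))`. -/
theorem core_le_of_fixed (hrM : Cfsg.pCoreOf r M ≠ ⊥)
    (hB : ∀ x ∈ coreCenter r M, Commute b x) : ∀ s : ℕ, s.Prime → Cfsg.pCoreOf s H ≤ M := by
  intro s hs
  by_cases hsM : Cfsg.pCoreOf s M = ⊥
  swap
  · exact c.pair.core_le hs hsM
  haveI := Fact.mk hr
  haveI := Fact.mk hs
  by_cases hsH : Cfsg.pCoreOf s H = ⊥
  · rw [hsH]; exact bot_le
  have hrM1 : Cfsg.pCoreOf r (M.map (MulAut.conj g).toMonoidHom) ≠ ⊥ := by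
    rw [← map_pCoreOf_conj, Ne, Subgroup.map_eq_bot_iff_of_injective _ (MulAut.conj g).injective]
    exact hrM
  -- a fixed point of the fixed points of `b` on `O_r(M)`
  have hE : Cfsg.pCoreOf r M ⊓ centralizer ({b} : Set G) ≤
      normalizer (coreCenter r (M.map (MulAut.conj g).toMonoidHom) : Set G) := fun a ha =>
    le_normalizer_coreCenter _ r (c.ctx1.mem_of_commute
      (commute_of_mem_centralizer_singleton (mem_inf.1 ha).2))
  obtain ⟨x', hx', hx'1, hxE⟩ := exists_fixed_ne_one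
    ((isPGroup_pCoreOf r _).to_le inf_le_left :
      IsPGroup r (coreCenter r (M.map (MulAut.conj g).toMonoidHom)))
    ((isPGroup_pCoreOf r M).to_le inf_le_left :
      IsPGroup r (Cfsg.pCoreOf r M ⊓ centralizer ({b} : Set G) : Subgroup G))
    hE (coreCenter_ne_bot hrM1)
  set x := g⁻¹ * x' * g with hxdef
  have hx : x ∈ coreCenter r M := coreCenter_conj' hx'
  have hxx : g * x * g⁻¹ = x' := by rw [hxdef]; group
  have hx1 : x ≠ 1 := fun e => hx'1 (by rw [← hxx, e]; group)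
  obtain ⟨hzx, hxf, hbx', hxf', hCx, -⟩ := c.center_facts hr hrt hx hx1
  rw [hxx] at hbx' hxf'
  have hzbx' : Commute (z * b) x' := by
    rw [← c.g2, ← hxx]
    exact commute_conj_iff.2 (hB x hx)
  have hzx' : Commute z x' := by
    have h := hzbx'.mul_left hbx'
    rwa [mul_assoc, Small.mul_self_of_orderOf_two c.hb, mul_one] at h
  have hx'M : x' ∈ M := c.pair.ctx.mem_of_commute hzx'
  set Y := (Cfsg.pCoreOf s H).map (MulAut.conj g).toMonoidHom with hY
  have hg' : g * (z * b) * g⁻¹ = z := by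
    rw [show g * (z * b) * g⁻¹ = g * z * g⁻¹ * (g * b * g⁻¹) by group, c.g1, c.g2, c.hzb.eq,
      ← mul_assoc, Small.mul_self_of_orderOf_two c.hb, one_mul]
  have hYz : ∀ w ∈ Y, Commute z w := by
    rintro _ ⟨y, hy, rfl⟩
    rw [← hg']
    exact commute_conj_iff.2 (c.commute_zb hs hsM y hy).2
  have hYM : Y ≤ M := fun w hw => c.pair.ctx.mem_of_commute (hYz w hw)
  have hYinv : ∀ w ∈ Y, Inverts b w := by
    rintro _ ⟨y, hy, rfl⟩
    rw [← c.g1]
    exact (c.pair.inverts_core hs hsM y hy).conj g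
  have hxY : x' ∈ normalizer (Y : Set G) := by
    refine mem_normalizer_fintype ?_
    rintro _ ⟨y, hy, rfl⟩
    refine ⟨x * y * x⁻¹, conj_mem_pCoreOf (c.mem_H hxf) hy, ?_⟩
    show g * (x * y * x⁻¹) * g⁻¹ = x' * (g * y * g⁻¹) * x'⁻¹
    rw [← hxx]; group
  have hfree : ∀ w ∈ Y, Commute x' w → w = 1 := by
    rintro _ ⟨y, hy, rfl⟩ hc
    have hy1 : y = 1 := c.pair.eq_one_of_mem hs hsM hy
      (hCx (mem_centralizer_of_commute (commute_conj_iff.1 (hxx.symm ▸ hc))))
    rw [hy1, map_one]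
  obtain ⟨n, hn⟩ := IsPGroup.iff_card.1 (isPGroup_pCoreOf s H)
  have hYcard : Nat.card Y = s ^ n := by
    rw [hY, card_map_of_injective (MulAut.conj g).injective, hn]
  intro y hy
  have hw : g * y * g⁻¹ ∈ Y := conj_mem_map hy
  have hwF : g * y * g⁻¹ ∈ fittingOf M := by
    refine c.pair.ctx.mem_fitting (hYM hw) fun v hv a ha => ?_
    by_cases hvM : Cfsg.pCoreOf v M = ⊥
    · rw [hvM, mem_bot] at ha
      exact ha ▸ Commute.one_left _
    haveI := Fact.mk hv
    refine (commute_of_frobenius (P := Cfsg.pCoreOf v M) (isPGroup_pCoreOf v M)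
      (c.pair.ctx.prime_ne_two hvM) ?_ ?_
      (hYM.trans (LocalStructure.le_normalizer_pCoreOf M)) (mem_normalizer_pCoreOf c.b_mem_M)
      (mem_normalizer_pCoreOf hx'M) hxY (Small.mul_self_of_orderOf_two c.hb) hYinv hbx'
      (c.ctx1.odd_orderOf_pCoreOf hr hx'.1) hfree ?_ _ hw a ha).symm
    · rw [hYcard]; exact (hs.odd_of_ne_two (c.pair.prime_ne_two hsH)).pow
    · rw [hYcard]
      exact ((Nat.coprime_primes hs hv).2 fun e => hvM (e ▸ hsM)).pow_left n
    · intro a' ha' hba'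
      by_cases hvr : v = r
      · subst hvr
        exact (hxE a' (mem_inf.2 ⟨ha', mem_centralizer_of_commute hba'⟩)).symm
      · exact commute_of_cores hr hv (Ne.symm hvr) hx'.1 ha' hx'M (c.ctx1.mem_of_commute hba')
  obtain ⟨k, hk⟩ := exists_pow_pCoreOf hy
  have h1 := mem_pCoreOf_of_mem_fittingOf M hwF (k := k) (by rw [conj_pow, hk]; group)
  rw [hsM, mem_bot, conj_eq_one_iff] at h1
  exact h1 ▸ one_mem M

end FCtx

end CfsgLib.Walter.OS
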