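import Cfsg.Agent.Walter.OS.FCore
import Cfsg.Agent.Walter.Overgroup
import Cfsg.Agent.Walter.Rotation
import Cfsg.Agent.GW.OSType.Local

/-!
# Walter, rank three: the centralizer of `f`, the components of `H`

In the situation `FCtx` the Fitting subgroup of `H` is in `M`, so `H` has a layer `K` outside `M`.
It centralizes `O(H) ∋ f`, so it is not of beta type.  For alpha type the involution `c` centralizing
`K` differs from `z`, and an eigen element `x` of `Z(O_r(M))` is not in `O(H)`; so `S` centralizes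
`x`, as otherwise its kernel would be `⟨z, c⟩` and would move with a rotation at `z`.  Then the
rotation at `c` in `K` centralizes `x`, so is in `M` and fixes `z`: false.
-/

set_option autoImplicit false
set_option linter.style.haveILetI false
set_option linter.unusedSectionVars false

open Subgroup
open CfsgLib.Signalizer CfsgLib.BenderMethod
open CfsgLib.GW.OS

namespace CfsgLib.Walter.OS

universe u

variable {G : Type u} [Group G] [Finite G]

/-- An eigen element whose centralizer contains `z` and `c` and is moved is centralized by `S`. -/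
theorem Eigen.commute_of_moved (hG : Minimal G) {S : Sylow 2 G} {x z c n : G} (hx : Eigen S x)
    (hn : Rot S z n) (hzx : Commute z x) (hcx : Commute c x) (hc : c ∈ (S : Subgroup G))
    (hc1 : c ≠ 1) (hcz : c ≠ z) (hcn : Commute c (n * x * n⁻¹)) :
    ∀ s ∈ (S : Subgroup G), Commute s x := by
  haveI : Fact (Nat.Prime 2) := ⟨Nat.prime_two⟩
  by_contra hno
  push Not at hno
  obtain ⟨s, hs, hsx⟩ := hno
  set F : Subgroup G := (S : Subgroup G) ⊓ centralizer ({x} : Set G) with hF
  have memF : ∀ y, y ∈ F ↔ y ∈ (S : Subgroup G) ∧ Commute y x := fun y => by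
    rw [hF, mem_inf, mem_centralizer_singleton_iff]
    rfl
  set d := n⁻¹ * c * n with hd
  have hdS : d ∈ (S : Subgroup G) :=
    (mem_normalizer_iff.1 hn.norm _).2 (by rw [hd]; simpa [mul_assoc] using hc)
  have hdx : Commute d x := by
    have h := hcn.map (MulAut.conj n⁻¹).toMonoidHom
    simpa [hd, mul_assoc] using h
  have hnd : n * d * n⁻¹ = c := by rw [hd]; group
  -- `d` is outside `⟨z, c⟩`
  have hd1 : d ≠ 1 := fun e => hc1 (by rw [← hnd, e]; group)
  have hdz : d ≠ z := fun e => hcz (by rw [← hnd, e, commute_iff_conj.1 hn.comm])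
  have hdc : d ≠ c := by
    intro e
    rcases hG.rot_fixed hn hc (commute_iff_conj.2 (by rw [← e]; exact hnd.trans e.symm)) with h | h
    exacts [hc1 h, hcz h]
  have hdzc : d ≠ z * c := by
    intro e
    have h1 : n * c * n⁻¹ = z * c := by
      have h2 : z * (n * c * n⁻¹) = c := by
        calc z * (n * c * n⁻¹) = n * z * n⁻¹ * (n * c * n⁻¹) := by rw [commute_iff_conj.1 hn.comm]
          _ = n * (z * c) * n⁻¹ := by group
          _ = c := by rw [← e, hnd]
      calc n * c * n⁻¹ = z * z * (n * c * n⁻¹) := by rw [hG.sq S z hn.mem, one_mul]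
        _ = z * c := by rw [mul_assoc, h2]
    have h3 : n * (n * c * n⁻¹) * n⁻¹ = c := by rw [h1, ← e, hnd]
    rcases hG.rot_fixed hn hc (commute_iff_conj.2 (hG.fix_of_sq S hn.norm hc h3)) with h | h
    exacts [hc1 h, hcz h]
  have hsub : ({1, z, c, z * c, d} : Set G) ⊆ (F : Set G) := by
    rintro y (rfl | rfl | rfl | rfl | rfl)
    exacts [one_mem F, (memF _).2 ⟨hn.mem, hzx⟩, (memF _).2 ⟨hc, hcx⟩,
      (memF _).2 ⟨mul_mem hn.mem hc, hzx.mul_left hcx⟩, (memF _).2 ⟨hdS, hdx⟩]
  have hzc1 : z * c ≠ 1 := fun e => hcz (by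
    rw [← inv_eq_of_mul_eq_one_right e, inv_eq_of_mul_eq_one_right (hG.sq S z hn.mem)])
  have hzcc : z * c ≠ c := fun e => hn.ne (mul_eq_right.1 e)
  have hzcz : z * c ≠ z := fun e => hc1 (mul_eq_left.1 e)
  have h5 : ({1, z, c, z * c, d} : Set G).ncard = 5 := by
    rw [Set.ncard_insert_of_notMem, Set.ncard_insert_of_notMem, Set.ncard_insert_of_notMem,
      Set.ncard_insert_of_notMem, Set.ncard_singleton]
    · simpa using hdzc.symm
    · simp only [Set.mem_insert_iff, Set.mem_singleton_iff, not_or]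
      exact ⟨hzcc.symm, hdc.symm⟩
    · simp only [Set.mem_insert_iff, Set.mem_singleton_iff, not_or]
      exact ⟨hcz.symm, hzcz.symm, hdz.symm⟩
    · simp only [Set.mem_insert_iff, Set.mem_singleton_iff, not_or]
      exact ⟨hn.ne.symm, hc1.symm, hzc1.symm, hd1.symm⟩
  have hle := Set.ncard_le_ncard hsub (Set.toFinite _)
  rw [h5, ← Nat.card_coe_set_eq] at hle
  change 5 ≤ Nat.card F at hle
  have hdvd : Nat.card F ∣ 8 := hG.card S ▸ card_dvd_of_le inf_le_left
  have h8 : Nat.card F = 8 := by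
    have := Nat.le_of_dvd (by norm_num) hdvd
    obtain ⟨k, hk⟩ := hdvd
    rcases k with _ | _ | k
    · omega
    · omega
    · have h1 : Nat.card F * (k + 2) = 8 := hk.symm
      nlinarith
  have hFS : F = (S : Subgroup G) := eq_of_le_of_card_ge inf_le_left (by rw [hG.card S, h8])
  exact hsx ((memF s).1 (hFS ▸ hs)).2

namespace FCtx

variable {S : Sylow 2 G} {z b g f : G} {t : ℕ} {M H : Subgroup G} (c : FCtx S z b g f t M H)
include c

/-- The Fitting subgroup of `H` is not in `M`. -/
theorem false_of_core_le {r : ℕ} (hr : r.Prime) (hrt : r ≠ t) (hrM : Cfsg.pCoreOf r M ≠ ⊥)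
    (hF : ∀ s : ℕ, s.Prime → Cfsg.pCoreOf s H ≤ M) : False := by
  haveI := Fact.mk hr
  haveI := Fact.mk c.ht
  have hc := c.pair.ctx
  by_cases hlayer : Cfsg.layer H = ⊥
  · refine c.pair.false_of_le ?_ hF
    rw [layerOf', hlayer, Subgroup.map_bot]
    exact bot_le
  have hfO : f ∈ oddOf H :=
    ⟨_, c.pair.mem_oddCore hlayer (pCoreOf_le_fittingOf M t c.hf) c.f_mem c.hfi, rfl⟩
  rcases hc.min.overgroup_cases S c.pair.coatom.1 c.sylow_le_H hlayer with ⟨c₀, hA⟩ | hB
  swap
  · have hzf : Commute z f :=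
      (mem_centralizer_iff.1 (hB.core (hB.sylow c.hzS)) f hfO).symm
    exact c.hf1 (c.hfi.eq_one hzf c.f_odd)
  -- `K` is not in `C(z)`
  have hK : ¬ layerOf' H ≤ M := fun h => c.pair.false_of_le h hF
  have hcz : c₀ ≠ z := by
    rintro rfl
    exact hK (hA.comm.trans hc.lt.le)
  have hc1 : c₀ ≠ 1 := fun e => hA.notMem (e ▸ one_mem _)
  -- an eigen element of the centre
  obtain ⟨x, hx, hx1, hxe⟩ := exists_eigen hc.min (R := coreCenter r M)
    ((hc.sylow_le c.hzS).trans (le_normalizer_coreCenter M r)) (coreCenter_ne_bot hrM)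
  obtain ⟨n, hn⟩ := hc.min.exists_rot' hc.nsol S c.hzS (Small.ne_one_of_orderOf_two hc.inv)
  have key : ∀ y ∈ coreCenter r M, y ≠ 1 → Eigen S y → Commute z y ∧ Commute c₀ y := by
    intro y hy hy1 hye
    obtain ⟨hzy, hyf, -, -, hC, -⟩ := c.center_facts hr hrt hy hy1
    refine ⟨hzy, (hye c₀ hA.mem).resolve_right fun hi => hK ?_⟩
    have hyO := hA.of_inverts y (c.mem_H hyf) (hc.odd_orderOf_pCoreOf hr hy.1) hi
    exact fun k hk => hC (mem_centralizer_of_commute
      (show Commute y k from mem_centralizer_iff.1 (hA.core hk) y hyO))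
  obtain ⟨hzx, hcx⟩ := key x hx hx1 hxe
  have hn' : n * x * n⁻¹ ∈ coreCenter r M :=
    (mem_normalizer_iff.1 (le_normalizer_coreCenter M r (hc.mem_of_commute hn.comm.symm)) x).1 hx
  have hcn := (key _ hn' (fun e => hx1 (conj_eq_one_iff.1 e)) (Eigen.conj hc.min hxe hn.norm)).2
  have hS := hxe.commute_of_moved hc.min hn hzx hcx hA.mem hc1 hcz hcn
  -- the rotation at `c₀`
  obtain ⟨d, hdK, hd, -, hdw⟩ := hA.rot
  obtain ⟨-, hxf, -, -, hC, -⟩ := c.center_facts hr hrt hx hx1
  have hdx : Commute d x :=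
    hdw x (c.mem_H hxf) (hc.odd_orderOf_pCoreOf hr hx.1) fun s hs => (hS s hs).symm
  have hdM : d ∈ M := hC (mem_centralizer_of_commute hdx.symm)
  have hdz : Commute d z := commute_iff_conj.2
    (hc.conj_eq hdM (hc.min.sylow_comm S (hd.conj_mem c.hzS) c.hzS))
  rcases hc.min.rot_fixed hd c.hzS hdz with h | h
  · exact Small.ne_one_of_orderOf_two hc.inv h
  · exact hcz h.symm

end FCtx

end CfsgLib.Walter.OS
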