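import Cfsg.Agent.Walter.OS.FLayer

/-!
# Walter, rank three: normalizers of `S`-invariant subgroups of `F(M)`

(F): `N(⟨f⟩) ≤ M` for an eigen element `f ∈ O_t(M)` of `S` inverted by `z`.
(H): `N(Q) ≤ M` for a nontrivial `S`-invariant subgroup `Q` of `F(M)`.
-/

set_option autoImplicit false
set_option linter.style.haveILetI false
set_option linter.unusedSectionVars false

open Subgroup
open CfsgLib.Signalizer CfsgLib.BenderMethod
open CfsgLib.GW.OS

namespace CfsgLib.Walter.OS

universe u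

variable {G : Type u} [Group G] [Finite G]

/-- **(F)**. -/
theorem Good.normalizer_zpowers_le {z : G} {M : Subgroup G} (hg : Good z M) {S : Sylow 2 G}
    (hzS : z ∈ (S : Subgroup G)) {t : ℕ} (ht : t.Prime) {f : G}
    (hf : f ∈ Cfsg.pCoreOf t M) (hf1 : f ≠ 1) (hfi : Inverts z f) (hfe : Eigen S f) :
    normalizer (zpowers f : Set G) ≤ M := by
  obtain ⟨b, hbS, hb1, hne, hbf⟩ := hfe.exists_fixed hg.1.min hzS hfi
  have hb : orderOf b = 2 := hg.1.min.orderOf_sylow S hbS hb1
  have hzb : Commute z b := hg.1.min.sylow_comm S hzS hbS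
  haveI := Fact.mk ht
  refine hg.1.normalizer_le_of (by simpa using hf1) (zpowers_le.2 (pCoreOf_le_fittingOf M t hf))
    (mem_normalizer_zpowers (Or.inr hfi)) fun H hp hle => ?_
  by_cases hsmall : ∀ v : ℕ, v.Prime → v ≠ t → ∀ x ∈ Cfsg.pCoreOf v M, Commute z x
  swap
  · push Not at hsmall
    obtain ⟨v, hv, hvt, x, hx, hzx⟩ := hsmall
    haveI := Fact.mk hv
    have hzv := hg.1.z_normalizes v
    set Q := invPart z (Cfsg.pCoreOf v M) with hQ
    have hQv : Q ≤ Cfsg.pCoreOf v M := invPart_le hzv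
    have hQne : Q ≠ ⊥ := fun e => hzx (comm_eq_one_iff.1
      (mem_bot.1 (e ▸ mem_invPart hx)))
    have hFQ : fittingOf M ≤ normalizer (Q : Set G) := by
      rw [fittingOf_eq_iSup]
      refine iSup_le fun q => ?_
      haveI := Fact.mk q.2
      by_cases hqv : (q : ℕ) = v
      · rw [hqv]; exact le_normalizer_invPart z _
      · exact fun y hy => centralizer_le_normalizer _ (mem_centralizer_of_forall
          fun w hw => (commute_pCoreOf M hqv hy (hQv hw)).symm)
    refine hp.false_of fun y _ hy => hg.normalizer_le hQne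
      (hQv.trans (pCoreOf_le_fittingOf M v)) hFQ (mem_normalizer_invPart (Commute.refl z) hzv)
      (centralizer_le_normalizer _ (mem_centralizer_of_forall (commute_invPart fun a ha =>
        hy _ (pCoreOf_le_fittingOf M v (comm_mem hzv ha)) ?_ (inverts_comm hg.1.z_sq a))))
    exact hle (mem_normalizer_zpowers_of_commute (commute_pCoreOf M hvt (comm_mem hzv ha) hf))
  -- `z` centralizes the other primes
  obtain ⟨g, g1, g2⟩ := hg.1.min.exists_cycle hg.1.nsol hg.1.inv hb hne.symm hzb
  have c : FCtx S z b g f t M H :=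
    ⟨hzS, hbS, hfe, hg, hp, hb, hzb, hne, g1, g2, ht, hf, hf1, hfi, hbf, hsmall, hle⟩
  obtain ⟨r, hr, hrt, hrM⟩ := hg.1.exists_second t
  haveI := Fact.mk hr
  refine c.false_of_core_le hr hrt hrM ?_
  by_cases hinv : ∃ x ∈ coreCenter r M, x ≠ 1 ∧ Inverts b x
  · obtain ⟨x, hx, hx1, hbx⟩ := hinv
    exact c.core_le_of_inverted hr hrt hx hx1 hbx
  · push Not at hinv
    have hbn : b ∈ normalizer (coreCenter r M : Set G) :=
      le_normalizer_coreCenter M r c.b_mem_M
    refine c.core_le_of_fixed hr hrt hrM fun x hx => ?_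
    by_contra hcx
    exact hinv _ (comm_mem hbn hx) (fun e => hcx (comm_eq_one_iff.1 e))
      (inverts_comm (Small.mul_self_of_orderOf_two hb) x)

/-- **(H)**. -/
theorem Good.normalizer_invariant_le {z : G} {M : Subgroup G} (hg : Good z M) {S : Sylow 2 G}
    (hzS : z ∈ (S : Subgroup G)) {Q : Subgroup G} (hQ : Q ≠ ⊥) (hQF : Q ≤ fittingOf M)
    (hSQ : (S : Subgroup G) ≤ normalizer (Q : Set G)) :
    normalizer (Q : Set G) ≤ M := by
  have hzQ : z ∈ normalizer (Q : Set G) := hSQ hzS
  refine hg.1.normalizer_le_of hQ hQF hzQ fun H hp hle => ?_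
  by_cases hall : ∀ w : ℕ, w.Prime → ∀ x ∈ Cfsg.pCoreOf w M ⊓ normalizer (Q : Set G), Commute z x
  · obtain ⟨u, hu, x, hx, hzx⟩ := hg.1.piMinus_nonempty
    haveI := Fact.mk hu
    refine hzx (LocalEven48.commute_of_commute_fixed (P := Cfsg.pCoreOf u M)
      (A := Q ⊓ Cfsg.pCoreOf u M) (b := z) (isPGroup_pCoreOf u M)
      ((isPGroup_pCoreOf u M).to_le inf_le_right) (inf_le_right.trans le_normalizer)
      (hg.1.z_normalizes u) ?_ ?_ ?_ x hx)
    · rw [hg.1.inv, Nat.coprime_primes Nat.prime_two hu]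
      intro e
      subst e
      rw [hg.1.pCoreOf_two, mem_bot] at hx
      exact hzx (hx ▸ Commute.one_right z)
    · exact fun a ha => (hall u hu a (mem_inf.2 ⟨ha.2, le_normalizer ha.1⟩)).symm
    · intro a ha hA
      refine hall u hu a (mem_inf.2 ⟨ha, centralizer_le_normalizer _
        (mem_centralizer_of_forall fun y hy => ?_)⟩)
      have hQa : Q ≤ centralizer ({a} : Set G) := by
        refine le_of_forall_primePower fun q hq w hw hwk => mem_centralizer_singleton_iff.2 ?_
        haveI := Fact.mk hq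
        obtain ⟨k, hk⟩ := hwk
        have hwq := mem_pCoreOf_of_mem_fittingOf M (hQF hw) hk
        by_cases hqu : q = u
        · subst hqu
          exact (hA w (mem_inf.2 ⟨hw, hwq⟩)).eq
        · exact (commute_pCoreOf M hqu hwq ha).eq
      exact mem_centralizer_singleton_iff.1 (hQa hy)
  · push Not at hall
    obtain ⟨w, hw, x, hx, hzx⟩ := hall
    haveI := Fact.mk hw
    have hn : ∀ v ∈ M, v ∈ normalizer (Q : Set G) → v ∈ normalizer
        ((Cfsg.pCoreOf w M ⊓ normalizer (Q : Set G) : Subgroup G) : Set G) := fun v hv hvQ =>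
      LocalStructure.le_normalizer_inf _ _
        (mem_inf.2 ⟨mem_normalizer_pCoreOf hv, le_normalizer hvQ⟩)
    obtain ⟨d, hd, hd1, hde, hdi⟩ := exists_eigen_inverted hg.1.min hzS
      (Small.ne_one_of_orderOf_two hg.1.inv)
      ((hg.1.odd_pCoreOf hw).of_dvd_nat (card_dvd_of_le inf_le_left))
      (fun v hv => hn v (hg.1.sylow_le hzS hv) (hSQ hv)) ⟨x, hx, hzx⟩
    exact hp.false_of fun y _ hy => hg.normalizer_zpowers_le hzS hw hd.1 hd1 hdi hde
      (mem_normalizer_zpowers_of_commute
        (hy d (pCoreOf_le_fittingOf M w hd.1) (hle hd.2) hdi).symm)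

end CfsgLib.Walter.OS
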