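import Cfsg.Agent.Walter.OS.Local
import Cfsg.Agent.GW.OSType.Main
import Cfsg.Agent.GW.OSType.Section

/-!
# Walter, rank three: involution centralizers are maximal

If the centralizer of `z` is not split, it is maximal.
-/

set_option autoImplicit false
set_option linter.style.haveILetI false
set_option linter.unusedSectionVars false

open Subgroup
open CfsgLib.Signalizer CfsgLib.BenderMethod
open CfsgLib.GW.OS
open scoped commutatorElement

namespace CfsgLib.Walter.OS

universe u

variable {G : Type u} [Group G] [Finite G]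

/-- The final situation. -/
structure Final (S : Sylow 2 G) (z b g f : G) (t : ℕ) (M : Subgroup G) : Prop where
  hzS : z ∈ (S : Subgroup G)
  hbS : b ∈ (S : Subgroup G)
  hfe : Eigen S f
  good : Good z M
  hb : orderOf b = 2
  hzb : Commute z b
  hne : b ≠ z
  g1 : g * z * g⁻¹ = b
  g2 : g * b * g⁻¹ = z * b
  ht : t.Prime
  hf : f ∈ Cfsg.pCoreOf t M
  hf1 : f ≠ 1
  hfi : Inverts z f
  hbf : Commute b f

namespace Final

variable {S : Sylow 2 G} {z b g f : G} {t : ℕ} {M : Subgroup G} (c : Final S z b g f t M)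
include c

theorem good1 : Good b (M.map (MulAut.conj g).toMonoidHom) := c.g1 ▸ c.good.conj g

theorem hS : (S : Subgroup G) ≤ M := c.good.1.sylow_le c.hzS

theorem hS1 : (S : Subgroup G) ≤ M.map (MulAut.conj g).toMonoidHom := c.good1.1.sylow_le c.hbS

theorem ne_conj : M ≠ M.map (MulAut.conj g).toMonoidHom := by
  intro e
  have hgM : g ∈ M := by
    refine c.good.1.normalizer_le le_rfl le_normalizer ?_
      (mem_normalizer_iff_map_conj_eq.2 e.symm)
    intro h
    have := c.good.1.mem_z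
    rw [h, mem_bot] at this
    exact Small.ne_one_of_orderOf_two c.good.1.inv this
  have h := c.good.1.conj_eq hgM (c.g1.symm ▸ c.hzb.symm)
  exact c.hne (c.g1.symm.trans h)

theorem disjoint_fitting :
    fittingOf M ⊓ fittingOf (M.map (MulAut.conj g).toMonoidHom) = ⊥ := by
  by_contra hne
  set M1 := M.map (MulAut.conj g).toMonoidHom
  set Q := fittingOf M ⊓ fittingOf M1
  have hbM : b ∈ M := c.good.1.mem_of_commute c.hzb
  have hzM1 : z ∈ M1 := c.good1.1.mem_of_commute c.hzb.symm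
  have hn : ∀ v ∈ M, v ∈ M1 → v ∈ normalizer (Q : Set G) := fun v hv hv1 =>
    LocalStructure.le_normalizer_inf _ _
      (mem_inf.2 ⟨c.good.1.mem_normalizer_fitting hv, c.good1.1.mem_normalizer_fitting hv1⟩)
  have hSQ : (S : Subgroup G) ≤ normalizer (Q : Set G) := fun v hv => hn v (c.hS hv) (c.hS1 hv)
  have h1 := c.good.normalizer_invariant_le c.hzS hne inf_le_left hSQ
  have h2 := c.good1.normalizer_invariant_le c.hbS hne inf_le_right hSQ
  exact c.ne_conj (c.good.1.eq_of_leadsTo c.good1.1.coatom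
    ⟨Q, hne, inf_le_left, inf_le_right.trans h2⟩ ⟨Q, hne, inf_le_right, inf_le_right.trans h1⟩)

theorem f_mem_M1 : f ∈ M.map (MulAut.conj g).toMonoidHom := c.good1.1.mem_of_commute c.hbf

theorem z_mem_M1 : z ∈ M.map (MulAut.conj g).toMonoidHom := c.good1.1.mem_of_commute c.hzb.symm

theorem commute_f_of_cores {a : G} {w : ℕ} (hw : w.Prime) (haM : a ∈ M)
    (ha : a ∈ Cfsg.pCoreOf w (M.map (MulAut.conj g).toMonoidHom)) : Commute f a := by
  haveI := Fact.mk hw
  haveI := Fact.mk c.ht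
  refine commute_elem_of_disjoint (disjoint_iff.2 c.disjoint_fitting) ?_
    (pCoreOf_le_fittingOf _ w (mul_mem (conj_mem_pCoreOf c.f_mem_M1 ha) (inv_mem ha)))
  rw [show f * a * f⁻¹ * a⁻¹ = f * (a * f⁻¹ * a⁻¹) by group]
  exact pCoreOf_le_fittingOf M t (mul_mem c.hf (conj_mem_pCoreOf haM (inv_mem c.hf)))

/-- `f` centralizes `O_v(M₁)` for `v ≠ t`, so that is in `M`. -/
theorem other_primes {v : ℕ} (hv : v.Prime) (hvt : v ≠ t) {a : G}
    (ha : a ∈ Cfsg.pCoreOf v (M.map (MulAut.conj g).toMonoidHom)) : Commute f a ∧ a ∈ M := by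
  haveI := Fact.mk hv
  haveI := Fact.mk c.ht
  have hca : Commute f a := by
    by_cases hbot : Cfsg.pCoreOf v (M.map (MulAut.conj g).toMonoidHom) = ⊥
    · rw [hbot, mem_bot] at ha
      exact ha ▸ Commute.one_right f
    exact commute_of_inverts_fixed (isPGroup_pCoreOf v _) (c.good1.1.prime_ne_two hbot) c.good.1.z_sq
      (mem_normalizer_pCoreOf c.z_mem_M1) (mem_normalizer_pCoreOf c.f_mem_M1) c.hfi
      (c.good.1.odd_orderOf_pCoreOf c.ht c.hf) (coprime_orderOf_pCoreOf c.ht hv hvt.symm c.hf)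
      (fun a ha hza => c.commute_f_of_cores hv (c.good.1.mem_of_commute hza) ha) a ha
  exact ⟨hca, c.good.normalizer_zpowers_le c.hzS c.ht c.hf c.hf1 c.hfi c.hfe
    (mem_normalizer_zpowers_of_commute hca.symm)⟩

/-- An eigen element of `O_r(M) ∩ M₁`. -/
theorem exists_x {r : ℕ} (hr : r.Prime) (hrt : r ≠ t) (hrM : Cfsg.pCoreOf r M ≠ ⊥) :
    ∃ x ∈ Cfsg.pCoreOf r M, x ∈ M.map (MulAut.conj g).toMonoidHom ∧ x ≠ 1 ∧ Eigen S x := by
  haveI := Fact.mk hr
  set M1 := M.map (MulAut.conj g).toMonoidHom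
  have hmin := c.good.1.min
  have hb2 := Small.mul_self_of_orderOf_two c.hb
  have hSn : (S : Subgroup G) ≤ normalizer (Cfsg.pCoreOf r M : Set G) := fun v hv =>
    mem_normalizer_pCoreOf (c.hS hv)
  by_cases hE : Cfsg.pCoreOf r M ⊓ centralizer ({b} : Set G) = ⊥
  swap
  · obtain ⟨a, ha, ha1, hae⟩ := exists_eigen hmin (le_normalizer_inf_centralizer hmin hSn c.hbS) hE
    exact ⟨a, ha.1, c.good1.1.mem_of_commute (commute_of_mem_centralizer_singleton ha.2), ha1, hae⟩
  have hbinv : ∀ a ∈ Cfsg.pCoreOf r M, Inverts b a :=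
    inverts_of_fixedPointFree hb2 (hSn c.hbS) fun a ha hba => by
      rw [← mem_bot, ← hE]
      exact ⟨ha, mem_centralizer_of_commute hba⟩
  -- some element of `O_r(M₁)` centralizes `O_r(M)`
  have hrM1 : Cfsg.pCoreOf r M1 ≠ ⊥ := by
    rw [← map_pCoreOf_conj, Ne, Subgroup.map_eq_bot_iff_of_injective _ (MulAut.conj g).injective]
    exact hrM
  have hSn1 : (S : Subgroup G) ≤ normalizer (Cfsg.pCoreOf r M1 : Set G) := fun v hv =>
    mem_normalizer_pCoreOf (c.hS1 hv)
  obtain ⟨y, hy, hy1, hye, hya⟩ : ∃ y ∈ Cfsg.pCoreOf r M1, y ≠ 1 ∧ Eigen S y ∧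
      ∀ a ∈ Cfsg.pCoreOf r M, Commute y a := by
    have hR : ∀ y ∈ Cfsg.pCoreOf r M1, y ∈ normalizer (Cfsg.pCoreOf r M : Set G) := fun y hy =>
      mem_normalizer_pCoreOf (c.other_primes hr hrt hy).2
    by_cases hRb : ∃ y ∈ Cfsg.pCoreOf r M1, ¬ Commute b y
    · obtain ⟨d, hd, hd1, hde, hdi⟩ := exists_eigen_inverted hmin c.hbS
        (Small.ne_one_of_orderOf_two c.hb) (c.good1.1.odd_pCoreOf hr) hSn1 hRb
      exact ⟨d, hd, hd1, hde, fun a ha => commute_of_scalar hdi
        (c.good1.1.odd_orderOf_pCoreOf hr hd) (hR d hd) (Or.inl hbinv) a ha⟩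
    push Not at hRb
    obtain ⟨d, hd, hd1, hde⟩ := exists_eigen hmin hSn1 hrM1
    have hzM : ∀ a ∈ Cfsg.pCoreOf r M, Commute z a := fun a ha => by
      have h := hRb (g * a * g⁻¹) (map_pCoreOf_conj g r M ▸ conj_mem_map ha)
      rw [← c.g1] at h
      exact commute_conj_iff.1 h
    have hzb_inv : ∀ a ∈ Cfsg.pCoreOf r M, Inverts (z * b) a := fun a ha => by
      rw [c.hzb.eq]
      exact (hbinv a ha).of_commute (hzM a ha)
    have hdzb : Inverts (z * b) d := by
      obtain ⟨a, ha, rfl⟩ : ∃ a ∈ Cfsg.pCoreOf r M, g * a * g⁻¹ = d := by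
        have hd' := hd
        rw [← map_pCoreOf_conj] at hd'
        exact hd'
      rw [← c.g2]
      exact (hbinv a ha).conj g
    exact ⟨d, hd, hd1, hde, fun a ha => commute_of_scalar hdzb
      (c.good1.1.odd_orderOf_pCoreOf hr hd) (hR d hd) (Or.inl hzb_inv) a ha⟩
  have hle : normalizer (zpowers y : Set G) ≤ M1 :=
    c.good1.normalizer_invariant_le c.hbS (by simpa using hy1)
      (zpowers_le.2 (pCoreOf_le_fittingOf M1 r hy)) hye.le_normalizer
  obtain ⟨a, ha, ha1, hae⟩ := exists_eigen hmin hSn hrM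
  exact ⟨a, ha, hle (mem_normalizer_zpowers_of_commute (hya a ha).symm), ha1, hae⟩

theorem contradiction : False := by
  haveI := Fact.mk c.ht
  set M1 := M.map (MulAut.conj g).toMonoidHom with hM1
  obtain ⟨r, hr, hrt, hrM⟩ := c.good.1.exists_second t
  haveI := Fact.mk hr
  obtain ⟨x, hx, hxM1, hx1, hxe⟩ := c.exists_x hr hrt hrM
  have hxz := hxe.cases c.hzS
  have hNx : normalizer (zpowers x : Set G) ≤ M :=
    c.good.normalizer_invariant_le c.hzS (by simpa using hx1)
      (zpowers_le.2 (pCoreOf_le_fittingOf M r hx)) hxe.le_normalizer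
  have ht2 : t ≠ 2 := c.good.1.prime_ne_two fun h => c.hf1 (mem_bot.1 (h ▸ c.hf))
  -- in the group `M₁`
  set P := Cfsg.pCore t M1
  haveI : P.Normal := LocalStructure.pCore_normal
  set zX : M1 := ⟨z, c.z_mem_M1⟩
  set xX : M1 := ⟨x, hxM1⟩
  set fX : M1 := ⟨f, c.f_mem_M1⟩
  have hPG : ∀ a ∈ P, (a : G) ∈ Cfsg.pCoreOf t M1 := fun a ha => ⟨a, ha, rfl⟩
  have hsec := commutator_mem_frattini (P := P) (z := zX) (x := xX) (f := fX)
    LocalStructure.pCore_isPGroup ht2 (Subtype.ext c.good.1.z_sq)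
    (hxz.imp (fun e => Subtype.ext e) (fun e => Subtype.ext e))
    (Subtype.ext (commute_pCoreOf M (Ne.symm hrt) c.hf hx).eq) (Subtype.ext c.hfi)
    (by rw [orderOf_mk]; exact c.good.1.odd_orderOf_pCoreOf c.ht c.hf)
    (by rw [orderOf_mk]; exact coprime_orderOf_pCoreOf hr c.ht hrt hx)
    (fun a ha hza => Subtype.ext (commute_of_cores hr c.ht hrt hx (hPG a ha) hxM1
      (c.good.1.mem_of_commute (hza.map M1.subtype))).eq)
    (fun a ha hxa => Subtype.ext (c.commute_f_of_cores c.ht
      (hNx (mem_normalizer_zpowers_of_commute (hxa.map M1.subtype).symm)) (hPG a ha)).eq)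
  -- the kernel of the action on the Frattini quotient and on the other primes
  set N := (frattini ↥P).map P.subtype with hN
  haveI : N.Normal := by rw [hN]; infer_instance
  set π := QuotientGroup.mk' N
  haveI : (P.map π).Normal :=
    (inferInstance : P.Normal).map π (QuotientGroup.mk'_surjective _)
  let K : Subgroup M1 := (centralizer (P.map π : Set (M1 ⧸ N))).comap π ⊓
    ⨅ v : {v : Nat.Primes // (v : ℕ) ≠ t}, centralizer (Cfsg.pCore (v.1 : ℕ) M1 : Set M1)
  haveI hKn : K.Normal := by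
    haveI : ∀ v : {v : Nat.Primes // (v : ℕ) ≠ t},
        (centralizer (Cfsg.pCore (v.1 : ℕ) M1 : Set M1)).Normal := fun v => by
      haveI := LocalStructure.pCore_normal (G := M1) (p := (v.1 : ℕ))
      infer_instance
    haveI := Subgroup.normal_iInf_normal (a := fun v : {v : Nat.Primes // (v : ℕ) ≠ t} =>
      centralizer (Cfsg.pCore (v.1 : ℕ) M1 : Set M1)) inferInstance
    exact Subgroup.normal_inf_normal _ _
  have hfK : fX ∈ K := by
    refine mem_inf.2 ⟨mem_centralizer_iff.2 ?_, mem_iInf.2 fun v => mem_centralizer_iff.2 ?_⟩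
    · rintro _ ⟨a, ha, rfl⟩
      have h : π (fX * a * fX⁻¹ * a⁻¹) = 1 := (QuotientGroup.eq_one_iff _).2 (hsec a ha)
      rw [map_mul, map_mul, map_mul, map_inv, map_inv, mul_inv_eq_one, mul_inv_eq_iff_eq_mul] at h
      exact h.symm
    · intro a ha
      haveI := Fact.mk v.1.2
      exact Subtype.ext (c.other_primes v.1.2 v.2 ⟨a, ha, rfl⟩).1.eq.symm
  have hPp : IsPGroup t P := LocalStructure.pCore_isPGroup
  -- its elements of order prime to `t` are central in it
  have hcentral : ∀ m ∈ K, (orderOf m).Coprime t → ∀ n ∈ K, Commute m n := by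
    intro m hm hmo n hn
    have hmP : ∀ a ∈ P, Commute m a := by
      have h := Coprime.le_centralizer_of_commutator_le_frattini (G := P) (A := zpowers m)
        (by rw [normalizer_eq_top]; exact le_top) (by
          obtain ⟨k, hk⟩ := IsPGroup.iff_card.1 (hPp.to_subgroup (frattini ↥P))
          rw [Nat.card_zpowers, hk]
          exact hmo.pow_right k) (by
          refine commutator_le.2 fun a ha w hw => (QuotientGroup.eq_one_iff _).1 ?_
          have hwc := (mem_inf.1 (zpowers_le.2 hm hw)).1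
          show π ⁅a, w⁆ = 1
          rw [map_commutatorElement]
          exact commutatorElement_eq_one_iff_commute.2
            (mem_centralizer_iff.1 hwc _ (mem_map_of_mem π ha)))
      exact fun a ha => (mem_centralizer_iff.1 (h (mem_zpowers m)) a ha).symm
    have hmF : (m : G) ∈ fittingOf M1 := c.good1.1.mem_fitting m.2 fun v hv a ha => by
      obtain ⟨a, ha, rfl⟩ := ha
      by_cases hvt : v = t
      · subst hvt
        exact ((hmP a ha).map M1.subtype).symm
      · exact (show Commute a m from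
          mem_centralizer_iff.1 (mem_iInf.1 (mem_inf.1 hm).2 ⟨⟨v, hv⟩, hvt⟩) a ha).map M1.subtype
    have hle : zpowers (m : G) ≤ centralizer ({(n : G)} : Set G) := by
      refine le_of_forall_primePower fun q hq w hw hwk => mem_centralizer_singleton_iff.2 ?_
      haveI := Fact.mk hq
      obtain ⟨k, hk⟩ := hwk
      have hwq := mem_pCoreOf_of_mem_fittingOf M1 (zpowers_le.2 hmF hw) hk
      by_cases hqt : q = t
      · subst hqt
        have h1 : w = 1 := by
          refine orderOf_eq_one_iff.1 (Nat.eq_one_of_dvd_coprimes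
            ((orderOf_coe m).symm ▸ hmo.pow_right k) ?_ (orderOf_dvd_of_pow_eq_one hk))
          obtain ⟨i, rfl⟩ := mem_powers_iff_mem_zpowers.2 hw
          exact orderOf_pow_dvd i
        rw [h1, one_mul, mul_one]
      · obtain ⟨a, ha, rfl⟩ := hwq
        exact ((show Commute a n from mem_centralizer_iff.1
          (mem_iInf.1 (mem_inf.1 hn).2 ⟨⟨q, hq⟩, hqt⟩) a ha).map M1.subtype).eq
    exact Subtype.ext (mem_centralizer_singleton_iff.1 (hle (mem_zpowers _)))
  have hKnil : Group.IsNilpotent K := by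
    refine Group.of_quotient_center_nilpotent ?_
    have hp : IsPGroup t (K ⧸ center K) := by
      intro q
      obtain ⟨m, rfl⟩ := QuotientGroup.mk_surjective q
      obtain ⟨a, s, hs, hord⟩ :=
        Nat.exists_eq_pow_mul_and_not_dvd (orderOf_pos m).ne' t c.ht.ne_one
      refine ⟨a, ?_⟩
      rw [← QuotientGroup.mk_pow, QuotientGroup.eq_one_iff, mem_center_iff]
      intro n
      refine Subtype.ext (hcentral _ (m ^ t ^ a).2 ?_ n n.2).eq.symm
      rw [orderOf_coe, orderOf_pow, hord, Nat.gcd_eq_right (dvd_mul_right _ _),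
        Nat.mul_div_cancel_left _ (pow_pos c.ht.pos a)]
      exact (c.ht.coprime_iff_not_dvd.2 hs).symm
    exact hp.isNilpotent
  have hfF : f ∈ fittingOf M1 := ⟨fX, Components.le_fittingSubgroup hKnil hfK, rfl⟩
  exact c.hf1 (mem_bot.1 (c.disjoint_fitting ▸
    mem_inf.2 ⟨pCoreOf_le_fittingOf M t c.hf, hfF⟩ : f ∈ (⊥ : Subgroup G)))

end Final

/-- There is no good subgroup. -/
theorem Good.false_of {z : G} {M : Subgroup G} (hg : Good z M) : False := by
  have hmin := hg.1.min
  obtain ⟨S, hzS, -⟩ := hmin.exists_sylow hg.1.inv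
  obtain ⟨t, ht, x, hx, hzx⟩ := hg.1.piMinus_nonempty
  obtain ⟨f, hf, hf1, hfe, hfi⟩ := exists_eigen_inverted hmin hzS
    (Small.ne_one_of_orderOf_two hg.1.inv) (hg.1.odd_pCoreOf ht)
    (fun v hv => mem_normalizer_pCoreOf (hg.1.sylow_le hzS hv)) ⟨x, hx, hzx⟩
  obtain ⟨b, hbS, hb1, hne, hbf⟩ := hfe.exists_fixed hmin hzS hfi
  have hb : orderOf b = 2 := hmin.orderOf_sylow S hbS hb1
  have hzb : Commute z b := hmin.sylow_comm S hzS hbS
  obtain ⟨g, g1, g2⟩ := hmin.exists_cycle hg.1.nsol hg.1.inv hb hne.symm hzb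
  exact (Final.mk hzS hbS hfe hg hb hzb hne g1 g2 ht hf hf1 hfi hbf).contradiction

end OS

/-- **Involution centralizers that are not split are maximal.** -/
theorem Minimal.isCoatom_centralizer {G : Type*} [Group G] [Finite G] (hG : Minimal G)
    (hnsol : ∀ a : G, orderOf a = 2 → ¬ Group.IsSolvable (Subgroup.centralizer ({a} : Set G)))
    (hse : ∀ H : Subgroup G, ¬ Cfsg.IsStronglyEmbedded H) {z : G} (hz : orderOf z = 2)
    (hns : ¬ Split z) : IsCoatom (Subgroup.centralizer ({z} : Set G)) := by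
  haveI := hG.simple
  rcases eq_top_or_exists_le_coatom (centralizer ({z} : Set G)) with htop | ⟨M, hM, hle⟩
  · exact absurd htop (hG.centralizer_ne_top hz)
  rcases hle.eq_or_lt with h | h
  · exact h ▸ hM
  · obtain ⟨M₀, hg⟩ := OS.exists_good (z := z) ⟨hG, hnsol, hse, hz, hns, hM, h⟩
    exact hg.false_of.elim

end CfsgLib.Walter
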