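import Cfsg.Agent.Walter.OS.Ctx
import Cfsg.Agent.PrimitiveStable.Local
import Cfsg.Agent.OddOrder.ZJ.Main
import Cfsg.Agent.S0118
import Cfsg.Agent.SolvCrit.ZJBasic

/-!
# Walter, rank three: the Fitting subgroup of `M` has two primes

Otherwise `Z(J(P))` is normal in `M`, so it controls the fusion, and `z` centralizes `F(M)`.
-/

set_option autoImplicit false
set_option linter.style.haveILetI false
set_option linter.unusedSectionVars false

open Subgroup
open CfsgLib.Signalizer CfsgLib.BenderMethod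
open CfsgLib.GW.OS

namespace CfsgLib.Walter.OS

universe u

variable {G : Type u} [Group G] [Finite G]

/-- An involution has a commuting partner. -/
theorem exists_partner (hG : Minimal G) {z : G} (hz : orderOf z = 2) :
    ∃ b : G, orderOf b = 2 ∧ Commute z b ∧ b ≠ z := by
  obtain ⟨S, hzS, -⟩ := hG.exists_sylow hz
  obtain ⟨b, hb, hb1, hbz, -⟩ := Eigen.exists_fixed hG (S := S) (x := (1 : G))
    (fun s _ => Or.inl (Commute.one_right s)) hzS
    (show z * 1 * z⁻¹ = (1 : G)⁻¹ by group)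
  exact ⟨b, hG.orderOf_sylow S hb hb1, hG.sylow_comm S hzS hb, hbz⟩

theorem isMulCommutative_sylow_subgroup (hG : Minimal G) (M : Subgroup G) (T : Sylow 2 M) :
    IsMulCommutative (T : Subgroup M) :=
  ⟨⟨fun a b => Subtype.ext ((hG.twoType.subgroup M).comm _ T.isPGroup' a.2 b.2).eq⟩⟩

theorem quadraticStable (hG : Minimal G) (M : Subgroup G) {p : ℕ} [Fact p.Prime] (hp : p ≠ 2) :
    OddOrder.ZJ.QuadraticStable p M :=
  OddOrder.ZJ.quadraticStable_of_isPStableOn fun P _ hP =>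
    PrimitiveStable.stable hp (isMulCommutative_sylow_subgroup hG M) P hP

theorem Ctx.centralizer_pCore_le {z : G} {M : Subgroup G} (hc : Ctx z M) {t : ℕ} [Fact t.Prime]
    (h1 : ∀ v : ℕ, v.Prime → v ≠ t → Cfsg.pCoreOf v M = ⊥) :
    centralizer (Cfsg.pCore t M : Set M) ≤ Cfsg.pCore t M := by
  intro x hx
  have hxF : (x : G) ∈ fittingOf M := hc.mem_fitting x.2 fun v hv y hy => by
    by_cases hvt : v = t
    · subst hvt
      obtain ⟨a, ha, rfl⟩ := hy
      exact (show Commute a x from mem_centralizer_iff.1 hx a ha).map M.subtype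
    · rw [h1 v hv hvt, mem_bot] at hy
      exact hy ▸ Commute.one_left _
  have hle : fittingOf M ≤ Cfsg.pCoreOf t M := by
    rw [fittingOf_eq_iSup]
    refine iSup_le fun v => ?_
    by_cases hvt : (v : ℕ) = t
    · rw [hvt]
    · rw [h1 v v.2 hvt]; exact bot_le
  obtain ⟨a, ha, hax⟩ := hle hxF
  rwa [← Subtype.ext (show (a : G) = x from hax)]

theorem Ctx.exists_second {z : G} {M : Subgroup G} (hc : Ctx z M) (t : ℕ) :
    ∃ v : ℕ, v.Prime ∧ v ≠ t ∧ Cfsg.pCoreOf v M ≠ ⊥ := by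
  classical
  by_contra hno
  push Not at hno
  obtain ⟨u, hu⟩ := hc.piMinus_nonempty
  obtain rfl : u = t := by
    by_contra hut
    exact hc.ne_bot_of_piMinus hu (hno u hu.1 hut)
  haveI := Fact.mk hu.1
  haveI := hc.simple
  have ht2 : u ≠ 2 := hc.prime_ne_two (hc.ne_bot_of_piMinus hu)
  obtain ⟨-, x₀, hx₀, hzx₀⟩ := id hu
  -- `Z(J(P))` is normal in `M`
  obtain ⟨P⟩ : Nonempty (Sylow u M) := inferInstance
  have hn := OddOrder.ZJ.centerThompsonOf_normal ht2
    (quadraticStable hc.min M ht2) (hc.centralizer_pCore_le hno) P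
  set P' : Subgroup G := (P : Subgroup M).map M.subtype with hP'
  have hFP : Cfsg.pCoreOf u M ≤ P' := map_mono (PLocal.pCore_le_sylow P)
  have hP'M : P' ≤ M := map_subtype_le _
  set W := Cfsg.centerThompsonOf u P' with hW
  have hWeq : (Cfsg.centerThompsonOf u (P : Subgroup M)).map M.subtype = W :=
    OddOrder.ZJ.map_centerThompsonOf M.subtype_injective.injOn
  have hWM : W ≤ M := hWeq ▸ map_subtype_le _
  have hP'p : IsPGroup u P' := P.isPGroup'.map _
  have hWne : W ≠ ⊥ := SolvCrit.centerThompson_ne_bot hP'p fun e =>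
    hc.ne_bot_of_piMinus hu (le_bot_iff.1 (e ▸ hFP))
  have hNW : normalizer (W : Set G) ≤ M := hc.normalizer_le hWM (by
    intro m hm
    refine mem_normalizer_fintype fun y hy => ?_
    rw [← hWeq] at hy ⊢
    obtain ⟨a, ha, rfl⟩ := hy
    exact ⟨⟨m, hm⟩ * a * ⟨m, hm⟩⁻¹, hn.conj_mem a ha _, rfl⟩) hWne
  -- `P'` is a Sylow subgroup of the group
  obtain ⟨P₀, hP₀⟩ := hP'p.exists_le_sylow
  have heq : (P₀ : Subgroup G) = P' := by
    refine le_antisymm ?_ hP₀
    by_contra hnle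
    haveI := P₀.isPGroup'.isNilpotent
    obtain ⟨⟨n, hn0⟩, hnN, hnP⟩ := SetLike.exists_of_lt
      (Group.normalizerCondition_of_isNilpotent (P'.subgroupOf (P₀ : Subgroup G))
        (lt_top_iff_ne_top.2 fun e => hnle (subgroupOf_eq_top.1 e)))
    have hnP' : n ∈ normalizer (P' : Set G) := mem_normalizer_fintype fun y hy =>
      mem_subgroupOf.1 ((mem_normalizer_iff.1 hnN ⟨y, hP₀ hy⟩).1 (mem_subgroupOf.2 hy))
    have hnM : n ∈ M := hNW (SolvCrit.normalizer_le_normalizer_centerThompson u P' hnP')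
    have hle : ((P' ⊔ zpowers n).subgroupOf M) ≤ (P : Subgroup M) := by
      have hp : IsPGroup u ((P' ⊔ zpowers n).subgroupOf M) :=
        (P₀.isPGroup'.to_le (sup_le hP₀ (zpowers_le.2 hn0))).comap_of_injective M.subtype
          M.subtype_injective
      exact (P.is_maximal' hp fun y hy => mem_subgroupOf.2 (mem_sup_left ⟨y, hy, rfl⟩)).le
    exact hnP (mem_subgroupOf.2
      ⟨⟨n, hnM⟩, hle (mem_subgroupOf.2 (mem_sup_right (mem_zpowers n))), rfl⟩)
  -- the centralizer of a second involution in `F(M)` is centralized by `z`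
  have key : ∀ b : G, orderOf b = 2 → Commute z b →
      ∀ a ∈ Cfsg.pCoreOf u M, Commute b a → Commute z a := by
    intro b hb hzb
    set F := Cfsg.pCoreOf u M with hF
    obtain ⟨g, hg⟩ := isConj_iff.1 (hc.min.isConj hc.inv hb)
    set R0 := F ⊓ centralizer ({b} : Set G) with hR0
    have hR0C : ∀ a ∈ R0, Commute z (g⁻¹ * a * g) := fun a ha => by
      have hba : Commute b a := commute_of_mem_centralizer_singleton (mem_inf.1 ha).2
      have h := hba.map (MulAut.conj g⁻¹).toMonoidHom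
      rw [← hg] at h
      simpa [mul_assoc] using h
    let R1 : Subgroup G := R0.map (MulAut.conj g⁻¹).toMonoidHom
    have hR1M : R1 ≤ M := by
      rintro _ ⟨a, ha, rfl⟩
      exact hc.mem_of_commute (by simpa using hR0C a ha)
    have hR1p : IsPGroup u (R1.subgroupOf M) :=
      (((isPGroup_pCoreOf u M).to_le inf_le_left).map _).comap_of_injective M.subtype
        M.subtype_injective
    obtain ⟨Q, hQ⟩ := hR1p.exists_le_sylow
    obtain ⟨c, hcQ⟩ := MulAction.exists_smul_eq M Q P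
    have himg : (fun a => (g * (c : G)⁻¹)⁻¹ * a * (g * (c : G)⁻¹)) '' (R0 : Set G) ⊆
        (P₀ : Set G) := by
      rintro _ ⟨a, ha, rfl⟩
      show _ ∈ (P₀ : Subgroup G)
      rw [heq]
      have h1 : g⁻¹ * a * g ∈ R1 := ⟨a, ha, by simp⟩
      have h2 : c * ⟨_, hR1M h1⟩ * c⁻¹ ∈ (P : Subgroup M) :=
        hcQ ▸ ⟨⟨_, hR1M h1⟩, hQ h1, rfl⟩
      exact ⟨_, h2, by simp [mul_assoc]⟩
    have hfree : ¬ ∃ (H K : Subgroup G) (_ : (K.subgroupOf H).Normal),
        Nonempty ((H ⧸ K.subgroupOf H) ≃* Matrix.SpecialLinearGroup (Fin 2) (ZMod u)) := by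
      rintro ⟨H, K, hK, ⟨e⟩⟩
      have hab : ∀ T : Sylow 2 (⊤ : Subgroup H), IsMulCommutative (T : Subgroup (⊤ : Subgroup H)) :=
        fun T => ⟨⟨fun a b => Subtype.ext (((hc.min.twoType.subgroup H).subgroup ⊤).comm _
          T.isPGroup' a.2 b.2).eq⟩⟩
      exact PLocal.not_hasSL2Section_of_abelian_sylow_two ht2 hab ⟨⊤, le_rfl,
        (e.toMonoidHom.comp (QuotientGroup.mk' (K.subgroupOf H))).comp
          (⊤ : Subgroup H).subtype,
        (e.surjective.comp (QuotientGroup.mk'_surjective _)).comp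
          fun h => ⟨⟨h, mem_top h⟩, rfl⟩⟩
    obtain ⟨n, hnN, hna⟩ := Cfsg.Agent.S0118.result ht2 hfree P₀ (R0 : Set G)
      (fun a ha => heq.ge (hFP (mem_inf.1 ha).1)) (g * (c : G)⁻¹) himg
    rw [heq] at hnN
    have hnM : n ∈ M := hNW hnN
    set m := n * (c : G) with hm
    have hmM : m ∈ M := mul_mem hnM c.2
    set z1 := m * z * m⁻¹ with hz1
    have hz1R : ∀ a ∈ R0, Commute z1 a := by
      intro a ha
      have e : m⁻¹ * a * m = g⁻¹ * a * g := by
        have h := hna a ha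
        calc m⁻¹ * a * m = (c : G)⁻¹ * (n⁻¹ * a * n) * c := by rw [hm]; group
          _ = g⁻¹ * a * g := by rw [h]; group
      have h := (hR0C a ha).map (MulAut.conj m).toMonoidHom
      rw [← e] at h
      simpa [mul_assoc, hz1] using h
    set K := M ⊓ centralizer (R0 : Set G) with hK
    have memK : ∀ y, y ∈ K ↔ y ∈ M ∧ ∀ a ∈ R0, Commute y a := fun y => by
      rw [hK, mem_inf, mem_centralizer_iff]
      exact and_congr_right fun _ => ⟨fun h a ha => (h a ha).symm, fun h a ha => (h a ha).symm⟩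
    have hz1K : z1 ∈ K := (memK _).2 ⟨mul_mem (mul_mem hmM hc.mem_z) (inv_mem hmM), hz1R⟩
    have hbK : b ∈ K := (memK _).2 ⟨hc.mem_of_commute hzb, fun a ha =>
      commute_of_mem_centralizer_singleton (mem_inf.1 ha).2⟩
    haveI : Fact (Nat.Prime 2) := ⟨Nat.prime_two⟩
    have h2p : ∀ y : K, orderOf (y : G) = 2 → IsPGroup 2 (zpowers y) := fun y hy =>
      IsPGroup.of_card (n := 1) (by rw [Nat.card_zpowers, ← Subgroup.orderOf_coe, hy, pow_one])
    obtain ⟨T1, hT1⟩ := (h2p ⟨z1, hz1K⟩ (by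
      show orderOf z1 = 2
      rw [hz1, Small.orderOf_conj_eq, hc.inv])).exists_le_sylow
    obtain ⟨T2, hT2⟩ := (h2p ⟨b, hbK⟩ hb).exists_le_sylow
    obtain ⟨k, hk⟩ := MulAction.exists_smul_eq K T1 T2
    set z2 := (k : G) * z1 * (k : G)⁻¹ with hz2
    have hkM : (k : G) ∈ M := ((memK _).1 k.2).1
    have hz2m : z2 = (k : G) * m * z * ((k : G) * m)⁻¹ := by rw [hz2, hz1]; group
    have hz2T : (⟨z2, mul_mem (mul_mem k.2 hz1K) (inv_mem k.2)⟩ : K) ∈ (T2 : Subgroup K) :=
      hk ▸ ⟨⟨z1, hz1K⟩, hT1 (mem_zpowers _), rfl⟩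
    set c0 := z2 * z⁻¹ with hc0
    have hc0i : Inverts z c0 := by
      rw [hc0, hz2m]
      exact inverts_comm hc.z_sq _
    have hc0O : c0 ∈ oddOf M := by
      obtain ⟨o, ho, d, hd, e⟩ := hc.exists_decomp' (mul_mem hkM hmM)
      have : c0 = o * (z * o⁻¹ * z⁻¹) := by
        rw [hc0, hz2m, e]
        calc o * d * z * (o * d)⁻¹ * z⁻¹ = o * (d * z) * d⁻¹ * o⁻¹ * z⁻¹ := by group
          _ = o * (z * o⁻¹ * z⁻¹) := by rw [← hd.eq]; group
      rw [this]
      exact mul_mem ho (conj_mem_oddOf hc.mem_z (inv_mem ho))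
    have hc0o : Odd (orderOf c0) := odd_orderOf_of_mem (odd_card_oddOf M) hc0O
    have hz2b : Commute z2 b := by
      have e : z2 * b * z2⁻¹ * b⁻¹ = c0 * (b * c0⁻¹ * b⁻¹) := by
        calc z2 * b * z2⁻¹ * b⁻¹ = c0 * (z * b * z⁻¹) * c0⁻¹ * b⁻¹ := by rw [hc0]; group
          _ = c0 * (b * c0⁻¹ * b⁻¹) := by rw [hzb.eq, mul_inv_cancel_right]; group
      have hodd : Odd (orderOf (z2 * b * z2⁻¹ * b⁻¹)) := odd_orderOf_of_mem (odd_card_oddOf M)
        (e ▸ mul_mem hc0O (conj_mem_oddOf (hc.mem_of_commute hzb) (inv_mem hc0O)))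
      have hbT : (⟨b, hbK⟩ : K) ∈ (T2 : Subgroup K) := hT2 (mem_zpowers _)
      obtain ⟨j, hj⟩ := T2.isPGroup'
        ⟨_, mul_mem (mul_mem (mul_mem hz2T hbT) (inv_mem hz2T)) (inv_mem hbT)⟩
      have hj' : (z2 * b * z2⁻¹ * b⁻¹) ^ 2 ^ j = 1 := by
        simpa using congrArg (fun t : (T2 : Subgroup K) => ((t : K) : G)) hj
      have h1 := Nat.eq_one_of_dvd_coprimes ((Nat.coprime_two_right.2 hodd).pow_right j) dvd_rfl
        (orderOf_dvd_of_pow_eq_one hj')
      rw [orderOf_eq_one_iff, mul_inv_eq_one, mul_inv_eq_iff_eq_mul] at h1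
      exact h1
    obtain ⟨w, hw, hwe⟩ := hc0i.exists_comm_eq hc0o
    have hwz : w * z * w⁻¹ = z2 := by
      rw [hc0] at hwe
      exact mul_right_cancel hwe
    have hwb : Commute b w := by
      obtain ⟨i, rfl⟩ := mem_zpowers_iff.1 hw
      exact (hz2b.symm.mul_right hzb.symm.inv_right).zpow_right i
    have hwM : w ∈ M := zpowers_le.2 (map_subtype_le _ hc0O) hw
    intro a ha hba
    have ha' : w * a * w⁻¹ ∈ R0 := mem_inf.2 ⟨conj_mem_pCoreOf hwM ha,
      mem_centralizer_of_commute ((hwb.mul_right hba).mul_right hwb.inv_right)⟩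
    have h3 : Commute z2 (w * a * w⁻¹) := by
      rw [hz2]
      have h4 := ((memK _).1 (mul_mem (mul_mem k.2 hz1K) (inv_mem k.2))).2 _ ha'
      exact h4
    rw [← hwz] at h3
    simpa [mul_assoc] using h3.map (MulAut.conj w⁻¹).toMonoidHom
  obtain ⟨b, hb, hzb, hne⟩ := exists_partner hc.min hc.inv
  have hle : Cfsg.pCoreOf u M ≤ centralizer ({z} : Set G) :=
    le_of_four hc.inv hb hzb hne (hc.odd_pCoreOf hu.1) (hc.z_normalizes u)
      (mem_normalizer_pCoreOf (hc.mem_of_commute hzb))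
      (fun a _ h => mem_centralizer_of_commute h)
      (fun a ha h => mem_centralizer_of_commute (key b hb hzb a ha h))
      (fun a ha h => mem_centralizer_of_commute
        (key (z * b) (orderOf_mul_two hc.inv hb hzb hne) ((Commute.refl z).mul_right hzb) a ha h))
  exact hzx₀ (commute_of_mem_centralizer_singleton (hle hx₀))

end CfsgLib.Walter.OS
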