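import Cfsg.Agent.Walter.Known
import Cfsg.Agent.Forms.PSLTwoEven
import Cfsg.Agent.GW.OSType.LinearFacts
import Cfsg.Agent.GW.OSType.OnePrime
import Cfsg.Agent.GW.PSLKlein
import Cfsg.Agent.HallNumbers.Forward
import Cfsg.Agent.J1Local.OneClass

/-!
# Walter, rank three: facts about the possible tops `Q = H/O(H)`

`PSL₂(q)`, `q ≡ 3, 5 (mod 8)`; `PSL₂(8)`; Janko–Ree type.  The main result `eq_one_of_inverted`: an
odd nilpotent subgroup normalised by the centraliser of an involution `z` of a non-solvable top has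
no nontrivial element inverted by `z`.
-/

set_option autoImplicit false
set_option linter.style.haveILetI false
set_option linter.unusedSectionVars false

open Subgroup
open CfsgLib.GW.OS (Inverts)
open scoped MatrixGroups

namespace CfsgLib.Walter.OS

theorem isNilpotent_comap {X Y : Type*} [Group X] [Group Y] {W : Subgroup Y}
    (hW : Group.IsNilpotent W) (f : X →* Y) (hf : Function.Injective f) :
    Group.IsNilpotent (W.comap f) := by
  haveI := hW
  refine Subgroup.isNilpotent_of_ker_le_center (f.subgroupComap W) fun x hx => ?_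
  have h1 : f (x : X) = f 1 := by
    rw [map_one]
    exact congrArg Subtype.val (MonoidHom.mem_ker.1 hx)
  rw [show x = 1 from Subtype.ext (hf h1)]
  exact one_mem _

theorem odd_card_comap {X Y : Type*} [Group X] [Group Y] [Finite Y] {W : Subgroup Y}
    (hW : Odd (Nat.card W)) (f : X →* Y) (hf : Function.Injective f) :
    Odd (Nat.card (W.comap f)) :=
  hW.of_dvd_nat (card_dvd_of_injective (f.subgroupComap W) fun _ _ h =>
    Subtype.ext (hf (congrArg Subtype.val h)))

variable {Q : Type*} [Group Q] [Finite Q]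

/-- An element with square in a normal subgroup of odd index lies in it. -/
theorem mem_of_sq_mem {L : Subgroup Q} [L.Normal] (hi : Odd L.index) {x : Q} (hx : x * x ∈ L) :
    x ∈ L := by
  refine (QuotientGroup.eq_one_iff x).1 ?_
  have h2 : (QuotientGroup.mk' L x) ^ 2 = 1 := by
    rw [pow_two, ← map_mul]
    exact (QuotientGroup.eq_one_iff _).2 hx
  have h1 := orderOf_dvd_of_pow_eq_one h2
  have h3 : orderOf (QuotientGroup.mk' L x) ∣ L.index := by
    rw [index_eq_card]; exact orderOf_dvd_natCard _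
  exact orderOf_eq_one_iff.1
    (Nat.eq_one_of_dvd_coprimes (Nat.coprime_two_left.2 hi) h1 h3)

/-- An element inverted by an element of a normal subgroup of odd index lies in it. -/
theorem mem_of_inverts {L : Subgroup Q} [L.Normal] (hi : Odd L.index) {z d : Q} (hz : z ∈ L)
    (h : Inverts z d) : d ∈ L := by
  refine mem_of_sq_mem hi ?_
  have e : d * d = (z * d * z⁻¹)⁻¹ * d := by rw [(h : z * d * z⁻¹ = d⁻¹), inv_inv]
  rw [e, show (z * d * z⁻¹)⁻¹ * d = z * (d⁻¹ * z⁻¹ * d) by group]
  exact mul_mem hz (by simpa [mul_assoc] using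
    (inferInstance : L.Normal).conj_mem z⁻¹ (inv_mem hz) d⁻¹)

theorem not_comm_of_even {L : Type*} [Group L] [Finite L] [IsSimpleGroup L]
    (h4 : 4 ∣ Nat.card L) : ¬ IsMulCommutative L := fun h => by
  have hp := Small.card_prime_of_simple_comm h
  rcases (Nat.dvd_prime hp).1 h4 with h4 | h4
  · omega
  · exact absurd (h4 ▸ hp) (by norm_num)

/-! ### `PSL₂(q)`, `q ≡ 3, 5 (mod 8)` -/

section PSLOdd

variable {L : Type*} [Group L] [Finite L]

theorem isSimpleGroup_pslOdd (hL : IsPSLOdd L) : IsSimpleGroup L := by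
  obtain ⟨F, iF, fF, -, h5, ⟨e⟩⟩ := hL
  haveI := CfsgLib.Linear.isSimpleGroup_PSL_of (F := F) 2 le_rfl (fun _ => by omega)
  haveI : Nontrivial L := e.toEquiv.nontrivial
  exact IsSimpleGroup.isSimpleGroup_of_surjective e.symm.toMonoidHom e.symm.surjective

theorem card_pslOdd (hL : IsPSLOdd L) : ∃ m, Odd m ∧ Nat.card L = 4 * m := by
  obtain ⟨F, iF, fF, h8, h5, ⟨e⟩⟩ := hL
  have hF : Odd (Fintype.card F) := by rw [Nat.odd_iff]; omega
  have h := CfsgLib.Linear.card_PSL_two_odd (F := F) hF
  rw [← Nat.card_congr e.toEquiv] at h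
  obtain ⟨k, hk⟩ : ∃ k, Fintype.card F = 8 * k + 3 ∨ Fintype.card F = 8 * k + 5 :=
    ⟨Fintype.card F / 8, by omega⟩
  rcases hk with hk | hk <;> rw [hk] at h
  · refine ⟨(8 * k + 3) * (4 * k + 1) * (2 * k + 1), ?_, ?_⟩
    · exact ((by use 4 * k + 1; ring : Odd (8 * k + 3)).mul (by use 2 * k; ring)).mul (by use k)
    · have e1 : (8 * k + 3) ^ 2 - 1 = 8 * ((4 * k + 1) * (2 * k + 1)) :=
        Nat.sub_eq_of_eq_add (by ring)
      rw [e1] at h
      linarith
  · refine ⟨(8 * k + 5) * (2 * k + 1) * (4 * k + 3), ?_, ?_⟩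
    · exact ((by use 4 * k + 2; ring : Odd (8 * k + 5)).mul (by use k)).mul (by use 2 * k + 1; ring)
    · have e1 : (8 * k + 5) ^ 2 - 1 = 8 * ((2 * k + 1) * (4 * k + 3)) :=
        Nat.sub_eq_of_eq_add (by ring)
      rw [e1] at h
      linarith

theorem card_sylow_pslOdd (hL : IsPSLOdd L) (S : Sylow 2 L) : Nat.card (S : Subgroup L) = 4 := by
  haveI : Fact (Nat.Prime 2) := ⟨Nat.prime_two⟩
  obtain ⟨m, hm, hc⟩ := card_pslOdd hL
  rw [S.card_eq_multiplicity, hc, Nat.factorization_mul (by norm_num) (by obtain ⟨_, rfl⟩ := hm; omega),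
    Finsupp.add_apply, show (4 : ℕ) = 2 ^ 2 by norm_num, Nat.prime_two.factorization_pow,
    Finsupp.single_eq_same, Nat.factorization_eq_zero_of_not_dvd (by
      obtain ⟨_, rfl⟩ := hm; omega)]

theorem dihType_pslOdd (hL : IsPSLOdd L) (hT : TwoType L) : GW.DihType L := by
  haveI : Fact (Nat.Prime 2) := ⟨Nat.prime_two⟩
  obtain ⟨S⟩ : Nonempty (Sylow 2 L) := inferInstance
  haveI := isKleinFour_of_card (card_sylow_pslOdd hL S) fun a =>
    Subtype.ext ((hT S S.isPGroup').1 a a.2)
  haveI : IsKleinFour (DihedralGroup 2) := inferInstance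
  obtain ⟨e⟩ : Nonempty ((S : Subgroup L) ≃* DihedralGroup 2) := IsKleinFour.nonempty_mulEquiv
  exact GW.dihType_of_sylow S e

/-- An odd nilpotent subgroup normalised by `C(v)` has no element inverted by `v`. -/
theorem psl_eq_one_of_normalized (hL : IsPSLOdd L) (hT : TwoType L) {v : L} (hv : orderOf v = 2)
    {X : Subgroup L} (hX : Group.IsNilpotent X) (hXo : Odd (Nat.card X))
    (hn : ∀ g, Commute v g → g ∈ normalizer (X : Set L)) {d : L} (hd : d ∈ X) (hi : Inverts v d) :
    d = 1 := by
  haveI := isSimpleGroup_pslOdd hL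
  have hd4 : 4 ∣ Nat.card L := by obtain ⟨m, -, hm⟩ := card_pslOdd hL; exact ⟨m, hm⟩
  have hC : centralizer ((⊤ : Subgroup L) : Set L) = ⊥ := by
    rw [coe_top, centralizer_univ]
    rcases IsSimpleGroup.eq_bot_or_eq_top_of_normal _ (inferInstance :
      (Subgroup.center L).Normal) with h | h
    · exact h
    · exact absurd ⟨⟨fun p q => (Subgroup.mem_center_iff.1 (h ▸ mem_top p) q).symm⟩⟩
        (not_comm_of_even hd4)
  obtain ⟨F, iF, fF, h8, h5, ⟨e⟩⟩ := hL
  have hpsl : GW.IsPSLOrAltSeven (⊤ : Subgroup L) :=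
    Or.inl ⟨F, iF, fF, by rw [Nat.odd_iff]; omega, by omega, ⟨Subgroup.topEquiv.trans e⟩⟩
  exact GW.OS.eq_one_of_normalized_top (L := (⊤ : Subgroup L))
    (dihType_pslOdd ⟨F, iF, fF, h8, h5, ⟨e⟩⟩ hT) hC hpsl hv hX hXo
    (hn v (Commute.refl v)) (fun g _ h => hn g h) hd hi

theorem isSolvable_centralizer_pslOdd (hL : IsPSLOdd L) {v : L} (hv : orderOf v = 2) :
    Group.IsSolvable (centralizer ({v} : Set L)) := by
  obtain ⟨m, hm, hc⟩ := card_pslOdd hL
  set C := centralizer ({v} : Set L)
  set Z := (zpowers v).subgroupOf C with hZ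
  haveI : Z.Normal := ⟨fun x hx g => by
    obtain ⟨i, hi⟩ := mem_zpowers_iff.1 (mem_subgroupOf.1 hx)
    have hg : Commute (g : L) v := mem_centralizer_singleton_iff.1 g.2
    refine mem_subgroupOf.2 (mem_zpowers_iff.2 ⟨i, ?_⟩)
    push_cast
    rw [← hi, (hg.zpow_right i).eq, mul_inv_cancel_right]⟩
  have hle : zpowers v ≤ C := zpowers_le.2 (mem_centralizer_singleton_iff.2 rfl)
  have hZc : Nat.card Z = 2 := by
    rw [hZ, Nat.card_congr (subgroupOfEquivOfLe hle).toEquiv, Nat.card_zpowers, hv]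
  have hsolZ : Group.IsSolvable Z := HallNumbers.isSolvable_of_not_four_dvd (by rw [hZc]; norm_num)
  have hsolQ : Group.IsSolvable (C ⧸ Z) := by
    refine HallNumbers.isSolvable_of_not_four_dvd fun h4 => ?_
    have h8 : 2 * 4 ∣ Nat.card L := by
      refine dvd_trans ?_ C.card_subgroup_dvd_card
      rw [← Z.card_mul_index, hZc, index_eq_card]
      exact mul_dvd_mul_left 2 h4
    rw [hc] at h8
    have : 2 ∣ m := by omega
    exact (Nat.not_even_iff_odd.2 hm) (even_iff_two_dvd.2 this)
  exact Group.isSolvable_of_ker_le_range Z.subtype (QuotientGroup.mk' Z) (by simp)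

end PSLOdd

/-! ### `PSL₂(8)` -/

/-- Involution centralisers in `PSL₂(8)` have exponent two. -/
theorem sq_eq_one_pslEight {L : Type*} [Group L] (hL : IsPSLEight L) {v g : L} (hv : orderOf v = 2)
    (hc : Commute v g) : g * g = 1 := by
  obtain ⟨F, iF, fF, h8, ⟨e⟩⟩ := hL
  obtain ⟨p, hp⟩ := CharP.exists F
  obtain ⟨n, hprime, hn⟩ := FiniteField.card F p
  have hp2 : p = 2 := by
    have hd : p ∣ 2 ^ 3 := by
      rw [show (2 : ℕ) ^ 3 = Fintype.card F by rw [h8]; norm_num, hn]
      exact dvd_pow_self p n.ne_zero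
    exact (Nat.prime_dvd_prime_iff_eq hprime Nat.prime_two).1 (hprime.dvd_of_dvd_pow hd)
  subst hp2
  have hinj := Forms.PSLTwoEven.projHom_injective (F := F)
  obtain ⟨s, hs⟩ := QuotientGroup.mk'_surjective _ (e v)
  obtain ⟨h, hh⟩ := QuotientGroup.mk'_surjective _ (e g)
  have hs2 : s * s = 1 := hinj (by
    rw [map_one, map_mul]
    change QuotientGroup.mk' _ s * QuotientGroup.mk' _ s = 1
    rw [hs, ← map_mul, Small.mul_self_of_orderOf_two hv, map_one])
  have hs1 : s ≠ 1 := fun e' => Small.ne_one_of_orderOf_two hv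
    (e.injective (by rw [← hs, e', map_one, map_one]))
  have hsh : s * h = h * s := hinj (by
    rw [map_mul, map_mul]
    change QuotientGroup.mk' _ s * QuotientGroup.mk' _ h =
      QuotientGroup.mk' _ h * QuotientGroup.mk' _ s
    rw [hs, hh, ← map_mul, ← map_mul, hc.eq])
  suffices h2 : h * h = 1 by
    apply e.injective
    rw [map_mul, ← hh, ← map_mul, h2, map_one, map_one]
  have hd1 := Matrix.SpecialLinearGroup.det_coe s
  have hns : SL2Trace.NonScalar (s : Matrix (Fin 2) (Fin 2) F) := by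
    by_contra hns
    unfold SL2Trace.NonScalar at hns
    push Not at hns
    obtain ⟨h01, h10, h00⟩ := hns
    refine hs1 ?_
    have hc1 : s 0 0 = 1 := by
      rw [Matrix.det_fin_two, h01, h10] at hd1
      have h' : (s 0 0 - 1) * (s 0 0 + 1) = 0 := by
        rw [← h00] at hd1
        linear_combination hd1
      rcases mul_eq_zero.1 h' with h' | h'
      · exact sub_eq_zero.1 h'
      · rwa [CharTwo.add_eq_zero] at h'
    ext i j
    fin_cases i <;> fin_cases j
    · simpa using hc1
    · simpa using h01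
    · simpa using h10
    · simpa [← h00] using hc1
  obtain ⟨x, y, hxy⟩ := SL2Tori.commute_exists hns (congrArg Subtype.val hsh)
  apply Subtype.ext
  rw [Matrix.SpecialLinearGroup.coe_mul, hxy, Matrix.SpecialLinearGroup.coe_one,
    SL2Tori.combination_mul]
  have htr : SL2Tori.tr s = 0 := by
    have h1 := SL2Tori.coe_inv_eq s
    rw [inv_eq_of_mul_eq_one_right hs2] at h1
    have h1' : (0 : F) • (1 : Matrix (Fin 2) (Fin 2) F) + (1 : F) • s.1 =
        SL2Tori.tr s • 1 + (-1 : F) • s.1 := by rw [zero_smul, zero_add, one_smul]; exact h1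
    exact (SL2Tori.coeff_unique hns h1').1.symm
  have hdet := Matrix.SpecialLinearGroup.det_coe h
  rw [hxy, SL2Tori.det_combination, htr] at hdet
  rw [htr, zero_mul, zero_mul, add_zero, CharTwo.add_self_eq_zero, zero_smul, add_zero,
    show x * x - y * y = 1 by rw [CharTwo.sub_eq_add]; linear_combination hdet, one_smul]

/-! ### Janko–Ree type -/

section JR

variable {L : Type*} [Group L] [Finite L]

theorem isConj_jr (hL : IsJR L) (hT : TwoType L) {a b : L} (ha : orderOf a = 2)
    (hb : orderOf b = 2) : IsConj a b := by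
  haveI : Fact (Nat.Prime 2) := ⟨Nat.prime_two⟩
  obtain ⟨hs, hcent⟩ := hL
  obtain ⟨F, iF, fF, h8, h5, ⟨e⟩⟩ := hcent a ha
  obtain ⟨m, -, hm⟩ := card_pslOdd (L := Matrix.ProjectiveSpecialLinearGroup (Fin 2) F)
    ⟨F, iF, fF, h8, h5, ⟨MulEquiv.refl _⟩⟩
  have hd : 8 ∣ Nat.card L := by
    refine dvd_trans ?_ (centralizer ({a} : Set L)).card_subgroup_dvd_card
    rw [Nat.card_congr e.toEquiv, Nat.card_prod, hm,
      Nat.card_congr Multiplicative.toAdd, Nat.card_zmod]
    exact ⟨m, by ring⟩
  obtain ⟨S⟩ : Nonempty (Sylow 2 L) := inferInstance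
  have hle := (hT S S.isPGroup').2
  have h8' : Nat.card (S : Subgroup L) = 8 := le_antisymm hle
    (Nat.le_of_dvd Nat.card_pos (S.pow_dvd_card_of_pow_dvd_card (n := 3) (by simpa using hd)))
  refine J1Local.isConj_involutions (not_comm_of_even (dvd_trans (by norm_num) hd)) ?_ S h8' ha hb
  intro h16
  have := Nat.le_of_dvd Nat.card_pos (S.pow_dvd_card_of_pow_dvd_card (n := 4) (by simpa using h16))
  omega

end JR

/-! ### Normalised subgroups -/

/-- In `PSL₂(8)` or Janko–Ree type. -/
theorem beta_eq_one_of_normalized {L : Type*} [Group L] [Finite L] (hL : IsPSLEight L ∨ IsJR L)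
    (hT : TwoType L) {z : L} (hz : orderOf z = 2) {W : Subgroup L} (hW : Group.IsNilpotent W)
    (hWo : Odd (Nat.card W)) (hn : ∀ g, Commute z g → g ∈ normalizer (W : Set L)) {d : L}
    (hd : d ∈ W) : d = 1 := by
  classical
  -- the fixed points of an involution commuting with `z` are trivial
  suffices aux : ∀ b : L, orderOf b = 2 → Commute z b →
      (b ≠ z → ∀ y ∈ W, Commute z y → y = 1) → ∀ a ∈ W, Commute b a → a = 1 by
    have key : ∀ b : L, orderOf b = 2 → Commute z b → ∀ a ∈ W, Commute b a → a = 1 :=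
      fun b hb hc => aux b hb hc fun _ => aux z hz (Commute.refl z) fun h => absurd rfl h
    obtain ⟨b, hb, hzb, hne⟩ : ∃ b : L, orderOf b = 2 ∧ Commute z b ∧ b ≠ z := by
      haveI : Fact (Nat.Prime 2) := ⟨Nat.prime_two⟩
      obtain ⟨S, hS⟩ := (IsPGroup.of_card (n := 1) (by rw [Nat.card_zpowers, hz, pow_one]) :
        IsPGroup 2 (zpowers z)).exists_le_sylow
      have hzS : z ∈ (S : Subgroup L) := hS (mem_zpowers z)
      obtain ⟨b, hb, hb1, hbz⟩ : ∃ b ∈ (S : Subgroup L), b ≠ 1 ∧ b ≠ z := by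
        by_contra h
        push Not at h
        have hsub : ((S : Subgroup L) : Set L) ⊆ {1, z} := fun b hb => by
          by_cases hb1 : b = 1
          · exact Or.inl hb1
          · exact Or.inr (h b hb hb1)
        have h2 : Nat.card (S : Subgroup L) ≤ 2 := by
          have hl := (Set.ncard_le_ncard hsub (Set.toFinite _)).trans (Set.ncard_insert_le _ _)
          rw [Set.ncard_singleton, ← Nat.card_coe_set_eq] at hl
          exact hl
        have h4 : 2 ^ 2 ∣ Nat.card L := by
          rcases hL with hL | ⟨-, hc⟩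
          · obtain ⟨F, iF, fF, h8, ⟨e⟩⟩ := hL
            rw [Nat.card_congr e.toEquiv, CfsgLib.Linear.card_PSL_two_even (F := F)
              (by rw [h8]; decide), h8]
            norm_num
          · obtain ⟨F, iF, fF, h8, h5, ⟨e⟩⟩ := hc z hz
            obtain ⟨m, -, hm⟩ := card_pslOdd (L := Matrix.ProjectiveSpecialLinearGroup (Fin 2) F)
              ⟨F, iF, fF, h8, h5, ⟨MulEquiv.refl _⟩⟩
            refine dvd_trans ?_ (centralizer ({z} : Set L)).card_subgroup_dvd_card
            rw [Nat.card_congr e.toEquiv, Nat.card_prod, hm]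
            exact dvd_mul_of_dvd_right (dvd_mul_right 4 m) _
        have := Nat.le_of_dvd Nat.card_pos (S.pow_dvd_card_of_pow_dvd_card h4)
        omega
      exact ⟨b, Small.orderOf_eq_two_iff_sq.2 ⟨hb1, (hT S S.isPGroup').1 b hb⟩,
        hT.comm S S.isPGroup' hzS hb, hbz⟩
    have hzW := hn z (Commute.refl z)
    have hbW := hn b hzb
    refine mem_bot.1 (GW.OS.le_of_four hz hb hzb hne (W := ⊥) hWo hzW hbW
      (fun a ha h => mem_bot.2 (key z hz (Commute.refl z) a ha h))
      (fun a ha h => mem_bot.2 (key b hb hzb a ha h))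
      (fun a ha h => mem_bot.2 (key (z * b) (GW.OS.orderOf_mul_two hz hb hzb hne)
        ((Commute.refl z).mul_right hzb) a ha h)) hd)
  intro b hb hzb hfix a ha hba
  have hao := GW.OS.odd_orderOf_of_mem hWo ha
  rcases hL with hL | ⟨-, hc⟩
  · have h2 := orderOf_dvd_of_pow_eq_one (x := a) (n := 2)
      (by rw [pow_two]; exact sq_eq_one_pslEight hL hb hba)
    exact orderOf_eq_one_iff.1 (Nat.eq_one_of_dvd_coprimes (Nat.coprime_two_left.2 hao) h2 dvd_rfl)
  obtain ⟨F, iF, fF, h8, h5, ⟨e⟩⟩ := hc b hb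
  set C := centralizer ({b} : Set L)
  set P := Matrix.ProjectiveSpecialLinearGroup (Fin 2) F
  have hP : IsPSLOdd P := ⟨F, iF, fF, h8, h5, ⟨MulEquiv.refl _⟩⟩
  haveI := isSimpleGroup_pslOdd hP
  let ψ : C →* P := (MonoidHom.snd _ _).comp e.toMonoidHom
  have hψs : Function.Surjective ψ := Prod.snd_surjective.comp e.surjective
  have hTP : TwoType P := by
    let ι : P →* L := C.subtype.comp (e.symm.toMonoidHom.comp (MonoidHom.inr _ _))
    have hι : Function.Injective ι := C.subtype_injective.comp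
      (e.symm.injective.comp (Prod.mk_right_injective 1))
    exact (hT.subgroup ι.range).of_equiv (MonoidHom.ofInjective hι).symm
  -- the kernel of the projection
  have hker : ∀ x : C, ψ x = 1 → x * x = 1 := fun x hx => e.injective (by
    rw [map_mul, map_one]
    refine Prod.ext ?_ (by show ψ x * ψ x = 1; rw [hx, one_mul])
    show (e x).1 * (e x).1 = 1
    generalize (e x).1 = y
    revert y
    decide)
  set X := (W.subgroupOf C).map ψ with hX
  have hWn' : Group.IsNilpotent (W.subgroupOf C) := isNilpotent_comap hW C.subtype C.subtype_injective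
  have hXn : Group.IsNilpotent X :=
    Group.nilpotent_of_surjective (h := hWn') (ψ.subgroupMap (W.subgroupOf C))
      (ψ.subgroupMap_surjective _)
  have hXo : Odd (Nat.card X) :=
    (odd_card_comap hWo C.subtype C.subtype_injective).of_dvd_nat (Subgroup.card_map_dvd _ ψ)
  have hzC : z ∈ C := mem_centralizer_singleton_iff.2 hzb.eq
  have haC : a ∈ C := mem_centralizer_singleton_iff.2 hba.symm.eq
  have hzn : z ∈ normalizer (W : Set L) := hn z (Commute.refl z)
  have hnX : ∀ g, Commute (ψ ⟨z, hzC⟩) g → g ∈ normalizer (X : Set P) := by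
    intro g hg
    let g' : C := e.symm (1, g)
    have hg' : ψ g' = g := by
      show (e (e.symm (1, g))).2 = g
      rw [e.apply_symm_apply]
    have hcz : Commute (⟨z, hzC⟩ : C) g' := e.injective (by
      rw [map_mul, map_mul, e.apply_symm_apply]
      exact Prod.ext (by simp) hg.eq)
    rw [← hg']
    refine le_normalizer_map ψ ⟨g', ?_, rfl⟩
    have hgn := hn g' (hcz.map C.subtype)
    exact mem_normalizer_iff.2 fun x => by
      simp only [mem_subgroupOf, coe_mul, coe_inv]
      exact mem_normalizer_iff.1 hgn x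
  have haX : ∀ x (hx : x ∈ C), x ∈ W → ψ ⟨x, hx⟩ ∈ X := fun x hx hxW =>
    mem_map_of_mem ψ (mem_subgroupOf.2 hxW)
  have hkillC : ∀ x (hx : x ∈ C), x ∈ W → ψ ⟨x, hx⟩ = 1 → x = 1 := fun x hx hxW h1 => by
    have h2 := orderOf_dvd_of_pow_eq_one (x := x) (n := 2)
      (by rw [pow_two]; exact congrArg Subtype.val (hker _ h1))
    exact orderOf_eq_one_iff.1 (Nat.eq_one_of_dvd_coprimes
      (Nat.coprime_two_left.2 (GW.OS.odd_orderOf_of_mem hWo hxW)) h2 dvd_rfl)
  -- the centre projects trivially
  have hbC : b ∈ C := mem_centralizer_singleton_iff.2 rfl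
  have hψb : ψ ⟨b, hbC⟩ = 1 := by
    have hcen : ∀ y : P, Commute (ψ ⟨b, hbC⟩) y := fun y => by
      obtain ⟨x, rfl⟩ := hψs y
      exact (show Commute (⟨b, hbC⟩ : C) x from
        Subtype.ext (mem_centralizer_singleton_iff.1 x.2).symm).map ψ
    have hmem : ψ ⟨b, hbC⟩ ∈ Subgroup.center P :=
      Subgroup.mem_center_iff.2 fun y => (hcen y).symm.eq
    rcases IsSimpleGroup.eq_bot_or_eq_top_of_normal _ (inferInstance :
      (Subgroup.center P).Normal) with h | h
    · rwa [h, mem_bot] at hmem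
    · obtain ⟨m, -, hm⟩ := card_pslOdd hP
      exact absurd ⟨⟨fun p q => (Subgroup.mem_center_iff.1 (h ▸ mem_top p) q).symm⟩⟩
        (not_comm_of_even ⟨m, hm⟩)
  refine hkillC a haC ha ?_
  by_cases hzb' : b = z
  · -- `X` is normalised by everything
    have hXN : X.Normal := normalizer_eq_top_iff.1 (top_unique fun g _ => hnX g (by
      rw [show (⟨z, hzC⟩ : C) = ⟨b, hbC⟩ from Subtype.ext hzb'.symm, hψb]
      exact Commute.one_left g))
    rcases IsSimpleGroup.eq_bot_or_eq_top_of_normal X hXN with h | h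
    · exact mem_bot.1 (h ▸ haX a haC ha)
    · exfalso
      rw [h, card_top] at hXo
      obtain ⟨m, -, hm⟩ := card_pslOdd hP
      rw [hm, Nat.odd_iff] at hXo
      omega
  have hzo : orderOf (ψ ⟨z, hzC⟩) = 2 := by
    refine Small.orderOf_eq_two_iff_sq.2 ⟨fun h1 => hzb' ?_, by
      rw [← map_mul, show (⟨z, hzC⟩ : C) * ⟨z, hzC⟩ = 1 from
        Subtype.ext (Small.mul_self_of_orderOf_two hz), map_one]⟩
    have hfst : ∀ x : C, ψ x = 1 → x ≠ 1 → (e x).1 = Multiplicative.ofAdd 1 := fun x hx hx1 => by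
      have : (e x).1 ≠ 1 := fun h' => hx1 (e.injective (by rw [map_one]; exact Prod.ext h' hx))
      revert this
      generalize (e x).1 = y
      revert y
      decide
    have he : e ⟨b, hbC⟩ = e ⟨z, hzC⟩ := Prod.ext
      ((hfst _ hψb fun h' => Small.ne_one_of_orderOf_two hb (congrArg Subtype.val h')).trans
        (hfst _ h1 fun h' => Small.ne_one_of_orderOf_two hz (congrArg Subtype.val h')).symm)
      (hψb.trans h1.symm)
    exact congrArg Subtype.val (e.injective he)
  have hinv : Inverts z a := GW.OS.inverts_of_fixedPointFree (Y := W ⊓ C)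
    (Small.mul_self_of_orderOf_two hz)
    (LocalStructure.le_normalizer_inf _ _ (mem_inf.2 ⟨hzn, le_normalizer hzC⟩))
    (fun y hy hzy => hfix hzb' y hy.1 hzy) a ⟨ha, haC⟩
  exact psl_eq_one_of_normalized hP hTP hzo hXn hXo hnX (haX a haC ha)
    ((show Inverts (⟨z, hzC⟩ : C) ⟨a, haC⟩ from Subtype.ext hinv).map ψ)

/-! ### The top lemma -/

/-- **Top lemma**: an odd nilpotent subgroup normalised by `C(z)` has no element inverted by `z`. -/
theorem eq_one_of_inverted {Q : Type*} [Group Q] [Finite Q] (hT : TwoType Q) (hK : KnownCore Q)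
    (hns : ¬ Group.IsSolvable Q) {z : Q} (hz : orderOf z = 2) {W : Subgroup Q}
    (hW : Group.IsNilpotent W) (hWo : Odd (Nat.card W))
    (hn : ∀ g, Commute z g → g ∈ normalizer (W : Set Q)) {d : Q} (hd : d ∈ W)
    (hi : Inverts z d) : d = 1 := by
  have hdo := GW.OS.odd_orderOf_of_mem hWo hd
  have hzz := Small.mul_self_of_orderOf_two hz
  have hnorm : ∀ (L : Subgroup Q) (g : L), Commute z (g : Q) →
      g ∈ normalizer (W.subgroupOf L : Set L) := fun L g hg =>
    mem_normalizer_iff.2 fun x => by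
      simp only [mem_subgroupOf, coe_mul, coe_inv]
      exact mem_normalizer_iff.1 (hn g hg) x
  rcases hK with h | ⟨L, hLn, hL, hC, hidx⟩ | ⟨L, hLn, hL, -, hidx⟩
  · exact absurd h hns
  · haveI := hLn
    haveI := isSimpleGroup_pslOdd hL
    set C := centralizer (L : Set Q)
    have hLC : ∀ l ∈ L, ∀ c ∈ C, Commute l c := fun l hl c hc => mem_centralizer_iff.1 hc l hl
    obtain ⟨v, hv, c, hc, rfl, hvv⟩ : ∃ v ∈ L, ∃ c ∈ C, z = v * c ∧ v * v = 1 := by
      obtain ⟨v, hv, c, hc, e⟩ := mem_sup_of_normal_left.1 (mem_of_sq_mem hidx (hzz ▸ one_mem _))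
      refine ⟨v, hv, c, hc, e.symm, ?_⟩
      have hd' : v * v ∈ C ⊓ L := by
        refine ⟨?_, mul_mem hv hv⟩
        have h1 : v * v * (c * c) = 1 := by
          calc v * v * (c * c) = v * (v * c) * c := by group
            _ = v * (c * v) * c := by rw [(hLC v hv c hc).eq]
            _ = v * c * (v * c) := by group
            _ = 1 := by rw [e]; exact hzz
        rw [eq_inv_of_mul_eq_one_left h1]
        exact C.inv_mem (C.mul_mem hc hc)
      rwa [centralizer_disjoint_of_simple (M := L) (not_comm_of_even (by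
        obtain ⟨m, -, hm⟩ := card_pslOdd hL
        exact ⟨m, hm⟩)), mem_bot] at hd'
    by_cases hv1 : v = 1
    · -- the involution is central
      subst hv1
      rw [one_mul] at hi hz
      refine hi.eq_one ?_ hdo
      haveI : C.Normal := inferInstance
      by_contra hne
      have hsub : ({1, c, d * c * d⁻¹} : Set Q) ⊆ (C : Set Q) := by
        rintro x (rfl | rfl | rfl)
        exacts [one_mem C, hc, (inferInstance : C.Normal).conj_mem c hc d]
      have h3 : ({1, c, d * c * d⁻¹} : Set Q).ncard = 3 := by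
        rw [Set.ncard_insert_of_notMem, Set.ncard_pair]
        · exact fun e => hne (mul_inv_eq_iff_eq_mul.1 e.symm).symm
        · simp only [Set.mem_insert_iff, Set.mem_singleton_iff, not_or]
          exact ⟨(Small.ne_one_of_orderOf_two hz).symm,
            fun e => Small.ne_one_of_orderOf_two hz (conj_eq_one_iff.1 e.symm)⟩
      have h := Set.ncard_le_ncard hsub (Set.toFinite _)
      rw [h3, ← Nat.card_coe_set_eq] at h
      change 3 ≤ Nat.card C at h
      omega
    have hdL : d ∈ L := by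
      have hzm : v * c ∈ L ⊔ C := mul_mem (mem_sup_left hv) (mem_sup_right hc)
      have hdm : d ∈ L ⊔ C := mem_of_inverts hidx hzm hi
      obtain ⟨l, hl, x, hx, rfl⟩ := mem_sup_of_normal_left.1 hdm
      have hx2 : x * x = 1 := by
        by_contra hne
        have hx1 : x ≠ 1 := fun e => hne (by rw [e, one_mul])
        have hsub : ({1, x, x * x} : Set Q) ⊆ (C : Set Q) := by
          rintro y (rfl | rfl | rfl)
          exacts [one_mem C, hx, mul_mem hx hx]
        have h3 : ({1, x, x * x} : Set Q).ncard = 3 := by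
          rw [Set.ncard_insert_of_notMem, Set.ncard_pair]
          · exact fun e => hx1 (left_eq_mul.1 e)
          · simp only [Set.mem_insert_iff, Set.mem_singleton_iff, not_or]
            exact ⟨hx1.symm, Ne.symm hne⟩
        have h := Set.ncard_le_ncard hsub (Set.toFinite _)
        rw [h3, ← Nat.card_coe_set_eq] at h
        change 3 ≤ Nat.card C at h
        omega
      have hsq : (l * x) * (l * x) ∈ L := by
        rw [show l * x * (l * x) = l * (x * l) * x by group, ← (hLC l hl x hx).eq,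
          show l * (l * x) * x = l * l * (x * x) by group, hx2, mul_one]
        exact mul_mem hl hl
      obtain ⟨k, hk⟩ := hdo
      have e := pow_orderOf_eq_one (l * x)
      rw [hk, pow_succ, pow_mul, pow_two] at e
      rw [eq_inv_of_mul_eq_one_right e]
      exact inv_mem (pow_mem hsq k)
    have hvL : orderOf (⟨v, hv⟩ : L) = 2 := Small.orderOf_eq_two_iff_sq.2
      ⟨fun e => hv1 (congrArg Subtype.val e), Subtype.ext hvv⟩
    have hiv : Inverts (⟨v, hv⟩ : L) ⟨d, hdL⟩ := Subtype.ext (by
      show v * d * v⁻¹ = d⁻¹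
      rw [← (hi : v * c * d * (v * c)⁻¹ = d⁻¹)]
      calc v * d * v⁻¹ = v * (d * c) * c⁻¹ * v⁻¹ := by group
        _ = v * c * d * (v * c)⁻¹ := by rw [(hLC d hdL c hc).eq]; group)
    exact congrArg Subtype.val (psl_eq_one_of_normalized hL (hT.subgroup L) hvL
      (X := W.subgroupOf L) (isNilpotent_comap hW L.subtype L.subtype_injective)
      (odd_card_comap hWo L.subtype L.subtype_injective)
      (fun g hg => hnorm L g ((hg.map L.subtype).mul_left (hLC g g.2 c hc).symm))
      (mem_subgroupOf.2 hd) hiv)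
  · haveI := hLn
    have hzL : z ∈ L := mem_of_sq_mem hidx (hzz ▸ one_mem _)
    have hdL : d ∈ L := mem_of_inverts hidx hzL hi
    exact congrArg Subtype.val (beta_eq_one_of_normalized (z := (⟨z, hzL⟩ : L)) hL (hT.subgroup L)
      (by rw [orderOf_mk, hz]) (W := W.subgroupOf L)
      (isNilpotent_comap hW L.subtype L.subtype_injective)
      (odd_card_comap hWo L.subtype L.subtype_injective)
      (fun g hg => hnorm L g (hg.map L.subtype)) (d := ⟨d, hdL⟩) (mem_subgroupOf.2 hd))

end CfsgLib.Walter.OS
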